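/-
Centralisers in the two-dimensional projective special linear group, for the non-split torus.
-/
import Cfsg.Agent.Lib.PSL2.Four

set_option autoImplicit false
set_option linter.unusedSectionVars false

namespace CfsgLib.Chev.Ree

open Matrix MulAction CfsgLib.Classical CfsgLib.PSL2
open scoped LinearAlgebra.Projectivization

variable {F : Type*} [Field F] [Finite F] {p : ℕ} [Fact p.Prime] [CharP F p]

local notation "PG" => Matrix.ProjGenLinGroup (Fin 2) F
local notation "PE" => ℙ (Ext2 F p) (Fin 2 → Ext2 F p)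

variable (p) in
/-- the torus of an element with non-rational fixed points -/
lemma torus_of_fix (hodd : Odd (Nat.card F)) {y : PG} (hy : y ∈ pslRange F) (hy1 : y ≠ 1)
    {a b : PE} (hg : GoodPair a b) (hr : ¬ IsRat a) (ha : y • a = a) (hb : y • b = b) :
    ∃ T : Subgroup PG, IsMulCommutative T ∧ 2 * Nat.card T = Nat.card F + 1 ∧
      T ≤ Subgroup.centralizer {y} ⊓ pslRange F ∧
      (∀ g ∈ Subgroup.centralizer {y} ⊓ pslRange F, (g • a = a ∧ g • b = b → g ∈ T) ∧
        (¬ (g • a = a ∧ g • b = b) → g • a = b ∧ g • b = a ∧ g * g = 1 ∧ y * y = 1)) ∧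
      (y * y = 1 → pairStab a b ⊓ pslRange F ≤ Subgroup.centralizer {y} ⊓ pslRange F ∧
        Nat.card ↥(pairStab a b ⊓ pslRange F) = Nat.card F + 1) := by
  haveI := charP_ext2 (F := F) (p := p)
  have hPE : P1Like p PG PE := p1Like_ext
  have hab := hg.1
  obtain ⟨r, w, -, -, -, -, -, -, hro, hz, hc, -⟩ := torus_psl hg (fun h => absurd h hr)
  rw [torusCard, if_neg hr, gcd_two_card_sub_one_of_odd hodd] at hro
  have h2 : 2 * orderOf r = Nat.card F + 1 := by
    obtain ⟨j, hj⟩ := hodd; omega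
  haveI := hPE.two_cyclic hab
  have hcomm : ∀ g : PG, g • a = a → g • b = b → g * y = y * g := by
    intro g h1 h2
    obtain ⟨c, hc⟩ := IsCyclic.exists_generator (α := ↥(stabilizer PG a ⊓ stabilizer PG b))
    obtain ⟨i, hi⟩ := Subgroup.mem_zpowers_iff.1 (hc ⟨g, h1, h2⟩)
    obtain ⟨j, hj⟩ := Subgroup.mem_zpowers_iff.1 (hc ⟨y, ha, hb⟩)
    have : (⟨g, h1, h2⟩ : ↥(stabilizer PG a ⊓ stabilizer PG b)) * ⟨y, ha, hb⟩ =
        ⟨y, ha, hb⟩ * ⟨g, h1, h2⟩ := by
      rw [← hi, ← hj, ← _root_.zpow_add, ← _root_.zpow_add, _root_.add_comm]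
    exact congrArg Subtype.val this
  have hswap : ∀ g : PG, g • a = b → g • b = a → g * g = 1 ∧ g * y * g⁻¹ = y⁻¹ := by
    intro g h1 h2
    have e1 := hPE.swap_sq hab h1 h2
    have e2 := hPE.swap_sq hab (show (g * y) • a = b by rw [mul_smul, ha, h1])
      (show (g * y) • b = a by rw [mul_smul, hb, h2])
    refine ⟨e1, eq_inv_of_mul_eq_one_left ?_⟩
    calc g * y * g⁻¹ * y = g * y * (g * y) := by rw [inv_eq_of_mul_eq_one_left e1]; group
      _ = 1 := e2
  refine ⟨Subgroup.zpowers r, ⟨⟨fun a b => Subtype.ext (Subgroup.mem_zpowers_iff.1 a.2 |>.elim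
    fun i hi => Subgroup.mem_zpowers_iff.1 b.2 |>.elim fun j hj => by
      show (a : PG) * b = b * a
      rw [← hi, ← hj, ← _root_.zpow_add, ← _root_.zpow_add, _root_.add_comm])⟩⟩,
    by rw [Nat.card_zpowers, h2], ?_, ?_, ?_⟩
  · rw [← hz]
    rintro g ⟨⟨h1, h2⟩, h3⟩
    exact ⟨Subgroup.mem_centralizer_singleton_iff.2 (hcomm g h1 h2), h3⟩
  · rintro g ⟨hg1, hg2⟩
    replace hg1 := Subgroup.mem_centralizer_singleton_iff.1 hg1
    refine ⟨fun h => hz ▸ ⟨⟨h.1, h.2⟩, hg2⟩, fun h => ?_⟩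
    have hfix : ∀ c : PE, y • c = c → c = a ∨ c = b := by
      intro c hc
      by_contra hne
      rw [not_or] at hne
      exact hy1 (hPE.sharp hab (Ne.symm hne.1) (Ne.symm hne.2) ha hb hc)
    have hga := hfix (g • a) (by rw [← mul_smul, ← hg1, mul_smul, ha])
    have hgb := hfix (g • b) (by rw [← mul_smul, ← hg1, mul_smul, hb])
    have hga' : g • a = b := by
      refine hga.resolve_left fun e => h ⟨e, hgb.resolve_left fun e' => hab ?_⟩
      exact smul_left_cancel g (e.trans e'.symm)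
    have hgb' : g • b = a := hgb.resolve_right fun e => hab (smul_left_cancel g (hga'.trans e.symm))
    obtain ⟨e1, e2⟩ := hswap g hga' hgb'
    refine ⟨hga', hgb', e1, ?_⟩
    rw [hg1, mul_inv_cancel_right] at e2
    nth_rw 2 [e2]
    exact mul_inv_cancel y
  · intro hy2
    refine ⟨?_, by rw [hc, h2]⟩
    rintro g ⟨h | h, hg2⟩
    · exact ⟨Subgroup.mem_centralizer_singleton_iff.2 (hcomm g h.1 h.2), hg2⟩
    · refine ⟨Subgroup.mem_centralizer_singleton_iff.2 ?_, hg2⟩
      have e := (hswap g h.1 h.2).2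
      rw [inv_eq_of_mul_eq_one_left hy2, mul_inv_eq_iff_eq_mul] at e
      exact e

variable (p) in
include p in
/-- centraliser of an element of odd prime order of a non-split torus -/
lemma pgl_cent_odd (hodd : Odd (Nat.card F)) {y : PG} (hy : y ∈ pslRange F) {l : ℕ} (hl : l.Prime)
    (hl2 : l ≠ 2) (hyl : orderOf y = l) (hd : l ∣ Nat.card F + 1) :
    IsMulCommutative ↥(Subgroup.centralizer {y} ⊓ pslRange F) ∧
      2 * Nat.card ↥(Subgroup.centralizer {y} ⊓ pslRange F) = Nat.card F + 1 := by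
  haveI := charP_ext2 (F := F) (p := p)
  have hPE : P1Like p PG PE := p1Like_ext
  have hy1 : y ≠ 1 := fun e => hl.ne_one (by rw [← hyl, e, orderOf_one])
  have hnq : ¬ l ∣ Nat.card F := fun h => hl.ne_one (Nat.dvd_one.1 ((Nat.dvd_add_right h).1 hd))
  have hn1 : ¬ l ∣ Nat.card F - 1 := fun h => by
    have := Nat.dvd_sub hd h
    have hlt := Finite.one_lt_card (α := F)
    rw [show Nat.card F + 1 - (Nat.card F - 1) = 2 by omega] at this
    exact hl2 ((Nat.prime_dvd_prime_iff_eq hl Nat.prime_two).1 this)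
  obtain ⟨a, ha⟩ := exists_fix_ext (p := p) y
  have hp : y ^ p ≠ 1 := by
    intro e
    have := (Nat.prime_dvd_prime_iff_eq hl Fact.out).1 (hyl ▸ orderOf_dvd_of_pow_eq_one e)
    obtain ⟨k, hk0, hk⟩ := card_eq_charPow (F := F) (p := p)
    exact hnq (this ▸ hk ▸ dvd_pow_self p hk0.ne')
  obtain ⟨b, hba, hb⟩ := hPE.exists_other hp ha
  have hg : GoodPair a b := goodPair_of_fixed hy1 hba.symm ha hb
  have hr : ¬ IsRat a := by
    intro hr
    have h := orderOf_dvd_natCard (⟨y, ha, hb⟩ : ↥(stabilizer PG a ⊓ stabilizer PG b))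
    rw [← Subgroup.orderOf_coe] at h
    change orderOf y ∣ _ at h
    rw [hyl, card_torus hg, torusCard, if_pos hr] at h
    exact hn1 h
  obtain ⟨T, hT, hcard, hle, hmem, -⟩ := torus_of_fix p hodd hy hy1 hg hr ha hb
  have heq : Subgroup.centralizer {y} ⊓ pslRange F = T := by
    refine le_antisymm (fun g hg' => ?_) hle
    by_cases h : g • a = a ∧ g • b = b
    · exact (hmem g hg').1 h
    · exfalso
      have h2 := ((hmem g hg').2 h).2.2.2
      exact hl2 ((Nat.prime_dvd_prime_iff_eq hl Nat.prime_two).1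
        (hyl ▸ orderOf_dvd_of_pow_eq_one (by rw [sq, h2])))
  rw [heq]
  exact ⟨hT, hcard⟩

variable (p) in
include p in
/-- centraliser of an involution -/
lemma pgl_cent_two (h4 : Nat.card F % 4 = 3) {y : PG} (hy : y ∈ pslRange F) (hy1 : y ≠ 1)
    (hy2 : y * y = 1) :
    Nat.card ↥(Subgroup.centralizer {y} ⊓ pslRange F) = Nat.card F + 1 := by
  have hodd : Odd (Nat.card F) := Nat.odd_iff.2 (by omega)
  obtain ⟨a, b, hg, ha, hb, h4'⟩ := invol_fix p hodd hy hy1 hy2
  have hr : ¬ IsRat a := by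
    intro hr
    have := (four_dvd_torusCard_iff hodd a).1 h4'
    simp only [hr, true_iff] at this
    omega
  obtain ⟨T, -, -, -, hmem, hpair⟩ := torus_of_fix p hodd hy hy1 hg hr ha hb
  obtain ⟨hle, hcard⟩ := hpair hy2
  rw [← hcard]
  refine congrArg (fun S : Subgroup PG => Nat.card S) (le_antisymm (fun g hg' => ⟨?_, hg'.2⟩) hle)
  by_cases h : g • a = a ∧ g • b = b
  · exact Or.inl h
  · exact Or.inr ⟨((hmem g hg').2 h).1, ((hmem g hg').2 h).2.1⟩

/-- transfer of centralisers -/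
noncomputable def centEquiv (y : Matrix.ProjectiveSpecialLinearGroup (Fin 2) F) :
    ↥(Subgroup.centralizer {y}) ≃*
      ↥(Subgroup.centralizer {ProjectiveSpecialLinearGroup.toPGL (n := Fin 2) (R := F) y} ⊓
        pslRange F) :=
  ((Subgroup.centralizer {y}).equivMapOfInjective _
    ProjectiveSpecialLinearGroup.toPGL_injective).trans (MulEquiv.subgroupCongr (by
      ext g
      constructor
      · rintro ⟨x, hx, rfl⟩
        refine ⟨Subgroup.mem_centralizer_singleton_iff.2 ?_, ⟨x, rfl⟩⟩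
        rw [← map_mul, ← map_mul, Subgroup.mem_centralizer_singleton_iff.1 hx]
      · rintro ⟨hg, x, rfl⟩
        refine ⟨x, Subgroup.mem_centralizer_singleton_iff.2 ?_, rfl⟩
        have := Subgroup.mem_centralizer_singleton_iff.1 hg
        rw [← map_mul, ← map_mul] at this
        exact ProjectiveSpecialLinearGroup.toPGL_injective this))

theorem psl_cent_odd (hodd : Odd (Nat.card F))
    {y : Matrix.ProjectiveSpecialLinearGroup (Fin 2) F} {l : ℕ} (hl : l.Prime)
    (hl2 : l ≠ 2) (hyl : orderOf y = l) (hd : l ∣ Nat.card F + 1) :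
    IsMulCommutative ↥(Subgroup.centralizer {y}) ∧
      2 * Nat.card ↥(Subgroup.centralizer {y}) = Nat.card F + 1 := by
  obtain ⟨p, hp⟩ := CharP.exists F
  haveI : Fact p.Prime := ⟨CharP.char_is_prime F p⟩
  obtain ⟨h1, h2⟩ := pgl_cent_odd p hodd (y := ProjectiveSpecialLinearGroup.toPGL y) ⟨y, rfl⟩ hl hl2
    (by rw [orderOf_injective _ ProjectiveSpecialLinearGroup.toPGL_injective, hyl]) hd
  refine ⟨⟨⟨fun a b => (centEquiv y).injective ?_⟩⟩, by rw [Nat.card_congr (centEquiv y).toEquiv, h2]⟩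
  rw [map_mul, map_mul]
  exact h1.is_comm.comm _ _

theorem psl_cent_two (h4 : Nat.card F % 4 = 3)
    {y : Matrix.ProjectiveSpecialLinearGroup (Fin 2) F} (hy1 : y ≠ 1) (hy2 : y * y = 1) :
    Nat.card ↥(Subgroup.centralizer {y}) = Nat.card F + 1 := by
  obtain ⟨p, hp⟩ := CharP.exists F
  haveI : Fact p.Prime := ⟨CharP.char_is_prime F p⟩
  rw [Nat.card_congr (centEquiv y).toEquiv]
  exact pgl_cent_two p h4 (y := ProjectiveSpecialLinearGroup.toPGL y) ⟨y, rfl⟩
    (fun e => hy1 (ProjectiveSpecialLinearGroup.toPGL_injective (e.trans (map_one _).symm)))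
    (by rw [← map_mul, hy2, map_one])

end CfsgLib.Chev.Ree
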