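/-
Elements of order a primitive prime divisor of `q⁶ - 1` in the general linear group of degree seven.
-/
import Cfsg.Agent.Lib.Chev.Twist.Fam.G2Cyclic

set_option autoImplicit false

namespace CfsgLib.Chev.Ree

open Matrix Polynomial

/-- powers of the number of elements are distinct modulo the prime -/
lemma pow_ne_one {p : ℕ} [Fact p.Prime] (h2 : p ≠ 2) (h3 : p ≠ 3) {q : ZMod p} (h : q ^ 2 - q + 1 = 0) :
    ∀ d ∈ [1, 2, 3, 4, 5], q ^ d ≠ 1 := by
  have hp : p.Prime := Fact.out
  have h2' : (2 : ZMod p) ≠ 0 := fun e => h2 ((Nat.prime_dvd_prime_iff_eq hp Nat.prime_two).1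
    ((ZMod.natCast_eq_zero_iff _ _).1 (by exact_mod_cast e)))
  have h3' : (3 : ZMod p) ≠ 0 := fun e => h3 ((Nat.prime_dvd_prime_iff_eq hp Nat.prime_three).1
    ((ZMod.natCast_eq_zero_iff _ _).1 (by exact_mod_cast e)))
  have e3 : q ^ 3 = -1 := by linear_combination (q + 1) * h
  intro d hd e
  simp only [List.mem_cons, List.not_mem_nil, or_false] at hd
  rcases hd with rfl | rfl | rfl | rfl | rfl
  · have : q = 1 := by simpa using e
    rw [this] at h
    exact one_ne_zero (show (1 : ZMod p) = 0 by linear_combination h)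
  · have : q = 2 := by linear_combination -h + e
    rw [this] at h
    exact h3' (by linear_combination h)
  · exact h2' (by linear_combination e3 - e)
  · have : q = -1 := by linear_combination -e + q * e3
    rw [this] at h
    exact h3' (by linear_combination h)
  · have h4 : q ^ 2 = -1 := by linear_combination -e + q ^ 2 * e3
    have : q = 0 := by linear_combination -h + h4
    rw [this] at h
    exact one_ne_zero (show (1 : ZMod p) = 0 by linear_combination h)

/-- the embedding of the extension of degree six -/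
noncomputable def blockA {F L : Type*} [Field F] [Field L] [Algebra F L] (b : Module.Basis (Fin 6) F L) :
    L →* Matrix (Fin 6 ⊕ Fin 1) (Fin 6 ⊕ Fin 1) F where
  toFun x := fromBlocks (Algebra.leftMulMatrix b x) 0 0 1
  map_one' := by rw [map_one, fromBlocks_one]
  map_mul' x y := by rw [fromBlocks_multiply]; simp

variable {F L : Type*} [Field F] [Field L] [Algebra F L] (b : Module.Basis (Fin 6) F L)

lemma blockA_inj : Function.Injective (blockA b) := fun x y h =>
  Algebra.leftMulMatrix_injective b (fromBlocks_inj.1 h).1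

/-- intertwiners of two elements other than one -/
lemma intertwine {ξ η : L} (hξ : ξ ≠ 1) (hη : η ≠ 1) {M : Matrix (Fin 6 ⊕ Fin 1) (Fin 6 ⊕ Fin 1) F}
    (h : M * blockA b ξ = blockA b η * M) :
    ∃ (P : Matrix (Fin 6) (Fin 6) F) (d : Matrix (Fin 1) (Fin 1) F), M = fromBlocks P 0 0 d ∧
      ∀ z : L, toLin b b P (ξ * z) = η * toLin b b P z := by
  set X := Algebra.leftMulMatrix b ξ with hX
  set Y := Algebra.leftMulMatrix b η with hY
  rw [← fromBlocks_toBlocks M] at h ⊢
  set P := M.toBlocks₁₁
  set u := M.toBlocks₁₂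
  set c := M.toBlocks₂₁
  set d := M.toBlocks₂₂
  change fromBlocks P u c d * fromBlocks X 0 0 1 = fromBlocks Y 0 0 1 * fromBlocks P u c d at h
  simp only [fromBlocks_multiply, Matrix.mul_zero, Matrix.zero_mul, Matrix.mul_one, Matrix.one_mul,
    add_zero, zero_add] at h
  obtain ⟨h1, h2, h3, -⟩ := fromBlocks_inj.1 h
  have unit : ∀ z : L, z ≠ 1 → ∃ W, (Algebra.leftMulMatrix b z - 1) * W = 1 ∧
      W * (Algebra.leftMulMatrix b z - 1) = 1 := fun z hz => ⟨Algebra.leftMulMatrix b (z - 1)⁻¹, by
    rw [← map_one (Algebra.leftMulMatrix b), ← map_sub, ← map_mul, ← map_mul,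
      mul_inv_cancel₀ (sub_ne_zero.2 hz), inv_mul_cancel₀ (sub_ne_zero.2 hz)]
    exact ⟨rfl, rfl⟩⟩
  have hu : u = 0 := by
    obtain ⟨W, -, hW⟩ := unit η hη
    have : (Y - 1) * u = 0 := by rw [Matrix.sub_mul, Matrix.one_mul, ← h2, sub_self]
    calc u = W * (Y - 1) * u := by rw [hW, Matrix.one_mul]
      _ = 0 := by rw [Matrix.mul_assoc, this, Matrix.mul_zero]
  have hc : c = 0 := by
    obtain ⟨W, hW, -⟩ := unit ξ hξ
    have : c * (X - 1) = 0 := by rw [Matrix.mul_sub, Matrix.mul_one, h3, sub_self]
    calc c = c * ((X - 1) * W) := by rw [hW, Matrix.mul_one]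
      _ = 0 := by rw [← Matrix.mul_assoc, this, Matrix.zero_mul]
  refine ⟨P, d, by rw [hu, hc], fun z => ?_⟩
  have := congrArg (fun N => toLin b b N z) h1
  simp only [toLin_mul b b b, LinearMap.comp_apply, hX, hY, Algebra.toMatrix_lmul_eq] at this
  simpa [Algebra.leftMulMatrix_apply, toLin_toMatrix] using this

lemma pow_intertwine {ξ η : L} {f : L →ₗ[F] L} (h : ∀ z, f (ξ * z) = η * f z) (g : F[X]) (z : L) :
    f (aeval ξ g * z) = aeval η g * f z := by
  induction g using Polynomial.induction_on' generalizing z with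
  | add g₁ g₂ h₁ h₂ => rw [map_add, map_add, add_mul, map_add, h₁, h₂, add_mul]
  | monomial n a =>
    induction n generalizing z with
    | zero => rw [aeval_monomial, aeval_monomial, pow_zero, mul_one, pow_zero, mul_one,
        ← Algebra.smul_def, map_smul, Algebra.smul_def]
    | succ n ih =>
      rw [aeval_monomial, aeval_monomial] at *
      rw [pow_succ, show algebraMap F L a * (ξ ^ n * ξ) * z = algebraMap F L a * ξ ^ n * (ξ * z) by ring]
      have := ih (ξ * z)
      rw [this, h]
      ring

/-- centralisers and normalisers of the block elements -/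
theorem block_facts [Finite F] (hL : Nat.card L = Nat.card F ^ 6) {p : ℕ} [Fact p.Prime] (h2 : p ≠ 2)
    (h3 : p ≠ 3) (hq : (Nat.card F : ZMod p) ^ 2 - Nat.card F + 1 = 0) {ξ : L} (hξ : orderOf ξ = p) :
    (∀ M N : Matrix (Fin 6 ⊕ Fin 1) (Fin 6 ⊕ Fin 1) F, M * blockA b ξ = blockA b ξ * M →
      N * blockA b ξ = blockA b ξ * N → M * N = N * M) ∧
    ∀ k : ℕ, (∃ M : Matrix (Fin 6 ⊕ Fin 1) (Fin 6 ⊕ Fin 1) F, IsUnit M ∧
      M * blockA b ξ = blockA b (ξ ^ k) * M) → ξ ^ k ^ 6 = ξ := by
  classical
  haveI : Module.Finite F L := Module.Finite.of_basis b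
  haveI : Finite L := Module.finite_of_finite F
  haveI := Fintype.ofFinite F
  have hp : p.Prime := Fact.out
  have hξ1 : ξ ≠ 1 := fun e => hp.ne_one (by rw [← hξ, e, orderOf_one])
  have hξ0 : ξ ≠ 0 := fun e => by
    have := pow_orderOf_eq_one ξ
    rw [hξ, e, zero_pow hp.ne_zero] at this
    exact zero_ne_one this
  have hint : IsIntegral F ξ := Algebra.IsIntegral.isIntegral ξ
  -- the degree
  have hfix : ∀ d : ℕ, 0 < d → d < 6 → ξ ^ Nat.card F ^ d ≠ ξ := by
    intro d hd0 hd6 e
    refine pow_ne_one h2 h3 hq d (by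
      simp only [List.mem_cons, List.not_mem_nil, or_false]; omega) ?_
    have hpos : 1 ≤ Nat.card F ^ d := Nat.one_le_pow _ _ Nat.card_pos
    have h1 : ξ ^ (Nat.card F ^ d - 1) = 1 := by
      refine mul_right_cancel₀ hξ0 ?_
      rw [← pow_succ, Nat.sub_add_cancel hpos, e, one_mul]
    have h' := (ZMod.natCast_eq_zero_iff _ p).2 (hξ ▸ orderOf_dvd_of_pow_eq_one h1)
    rw [Nat.cast_sub hpos, sub_eq_zero, Nat.cast_pow, Nat.cast_one] at h'
    exact h'
  have horb : ∀ i, aeval (ξ ^ Nat.card F ^ i) (minpoly F ξ) = 0 := by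
    intro i
    induction i with
    | zero => rw [pow_zero, pow_one]; exact minpoly.aeval F ξ
    | succ i ih =>
      rw [pow_succ, pow_mul, Nat.card_eq_fintype_card,
        show (ξ ^ Fintype.card F ^ i) ^ Fintype.card F =
          FiniteField.frobeniusAlgHom F L (ξ ^ Fintype.card F ^ i) from rfl,
        aeval_algHom_apply, ← Nat.card_eq_fintype_card, ih, map_zero]
  have hpow6 : ξ ^ Nat.card F ^ 6 = ξ := by
    rw [← hL]
    haveI := Fintype.ofFinite L
    rw [Nat.card_eq_fintype_card, FiniteField.pow_card]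
  have hinj : Function.Injective fun i : Fin 6 => ξ ^ Nat.card F ^ (i : ℕ) := by
    have key : ∀ i j : ℕ, i < j → j < 6 → ξ ^ Nat.card F ^ i ≠ ξ ^ Nat.card F ^ j := by
      intro i j hij hj e
      refine hfix (i + (6 - j)) (by omega) (by omega) ?_
      have := congrArg (· ^ Nat.card F ^ (6 - j)) e
      simp only [← pow_mul, ← pow_add] at this
      rw [this, show j + (6 - j) = 6 by omega, hpow6]
    intro i j e
    rcases lt_trichotomy (i : ℕ) j with h | h | h
    · exact absurd e (key i j h j.2)
    · exact Fin.ext h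
    · exact absurd e.symm (key j i h i.2)
  have hne : minpoly F ξ ≠ 0 := minpoly.ne_zero hint
  set R := (Finset.univ : Finset (Fin 6)).image fun i : Fin 6 => ξ ^ Nat.card F ^ (i : ℕ) with hR
  have hRsub : R ⊆ ((minpoly F ξ).map (algebraMap F L)).roots.toFinset := by
    intro z hz
    obtain ⟨i, -, rfl⟩ := Finset.mem_image.1 hz
    rw [Multiset.mem_toFinset, mem_roots (map_ne_zero hne), IsRoot, eval_map_algebraMap]
    exact horb i
  have hfr : Module.finrank F L = 6 := by rw [Module.finrank_eq_card_basis b, Fintype.card_fin]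
  have hdeg : (minpoly F ξ).natDegree ≤ 6 := hfr ▸ minpoly.natDegree_le ξ
  have hRcard : R.card = 6 := by rw [hR, Finset.card_image_of_injective _ hinj]; simp
  have hroots : ((minpoly F ξ).map (algebraMap F L)).roots.toFinset = R := by
    refine (Finset.eq_of_subset_of_card_le hRsub ?_).symm
    rw [hRcard]
    exact ((Multiset.toFinset_card_le _).trans (card_roots' _)).trans
      (by rw [natDegree_map]; exact hdeg)
  have hd6 : (minpoly F ξ).natDegree = 6 := by
    refine le_antisymm hdeg ?_
    rw [← hRcard, ← hroots, ← natDegree_map (algebraMap F L)]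
    exact (Multiset.toFinset_card_le _).trans (card_roots' _)
  have hadj : ∀ w : L, ∃ g : F[X], aeval ξ g = w := by
    intro w
    have e : Algebra.adjoin F {ξ} = ⊤ := by
      apply Subalgebra.toSubmodule.injective
      rw [Algebra.top_toSubmodule]
      refine Submodule.eq_top_of_finrank_eq ?_
      rw [hfr, ← hd6]
      have := (Algebra.adjoin.powerBasis hint).finrank
      rw [Algebra.adjoin.powerBasis_dim] at this
      exact this
    have hw : w ∈ Algebra.adjoin F {ξ} := e ▸ Algebra.mem_top
    rw [Algebra.adjoin_singleton_eq_range_aeval] at hw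
    exact hw
  refine ⟨fun M N hM hN => ?_, fun k ⟨M, hMu, hM⟩ => ?_⟩
  · obtain ⟨P, d, rfl, hP⟩ := intertwine b hξ1 hξ1 hM
    obtain ⟨Q, d', rfl, hQ⟩ := intertwine b hξ1 hξ1 hN
    rw [fromBlocks_multiply, fromBlocks_multiply]
    simp only [Matrix.mul_zero, Matrix.zero_mul, add_zero, zero_add]
    congr 1
    · have lin : ∀ {P : Matrix (Fin 6) (Fin 6) F}, (∀ z : L, toLin b b P (ξ * z) = ξ * toLin b b P z) →
          ∀ z : L, toLin b b P z = z * toLin b b P 1 := by
        intro P hP z
        obtain ⟨g, rfl⟩ := hadj z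
        have := pow_intertwine hP g 1
        rwa [mul_one] at this
      refine (toLin b b).injective (LinearMap.ext fun z => ?_)
      rw [toLin_mul b b b, toLin_mul b b b, LinearMap.comp_apply, LinearMap.comp_apply,
        lin hP (toLin b b Q z), lin hQ (toLin b b P z), lin hP z, lin hQ z]
      ring
    · ext i j
      fin_cases i; fin_cases j
      simp [Matrix.mul_apply, mul_comm]
  · -- the exponent is a Galois exponent
    by_cases hk1 : ξ ^ k = 1
    · exfalso
      rw [hk1] at hM
      rw [map_one, Matrix.one_mul] at hM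
      have e : blockA b ξ = 1 := hMu.mul_left_cancel (by rw [hM, Matrix.mul_one])
      exact hξ1 (blockA_inj b (e.trans (map_one _).symm))
    obtain ⟨P, d, rfl, hP⟩ := intertwine b hξ1 hk1 hM
    have hP1 : toLin b b P 1 ≠ 0 := by
      intro e
      have h0 : P = 0 := (toLin b b).injective (LinearMap.ext fun z => by
        obtain ⟨g, rfl⟩ := hadj z
        have := pow_intertwine hP g 1
        rw [mul_one, e, mul_zero] at this
        rw [this, map_zero, LinearMap.zero_apply])
      obtain ⟨W, hW⟩ := hMu.exists_right_inv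
      have := congrFun (congrFun hW (Sum.inl 0)) (Sum.inl 0)
      rw [h0] at this
      simp [Matrix.mul_apply, Fintype.sum_sum_type] at this
    have hroot : aeval (ξ ^ k) (minpoly F ξ) = 0 := by
      have := pow_intertwine hP (minpoly F ξ) 1
      rw [minpoly.aeval, zero_mul, map_zero] at this
      exact (mul_eq_zero.1 this.symm).resolve_right hP1
    have hmem : ξ ^ k ∈ R := by
      rw [← hroots, Multiset.mem_toFinset, mem_roots (map_ne_zero hne), IsRoot, eval_map_algebraMap]
      exact hroot
    obtain ⟨i, -, hi⟩ := Finset.mem_image.1 hmem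
    have hfo : IsOfFinOrder ξ := orderOf_pos_iff.1 (hξ ▸ hp.pos)
    have hmod : (k : ZMod p) = (Nat.card F : ZMod p) ^ (i : ℕ) := by
      have := hfo.pow_eq_pow_iff_modEq.1 hi
      rw [hξ] at this
      rw [← Nat.cast_pow]
      exact ((ZMod.natCast_eq_natCast_iff _ _ _).2 this).symm
    conv_rhs => rw [← pow_one ξ]
    rw [hfo.pow_eq_pow_iff_modEq, hξ, ← ZMod.natCast_eq_natCast_iff, Nat.cast_pow, hmod, ← pow_mul,
      mul_comm, pow_mul]
    have e6 : (Nat.card F : ZMod p) ^ 6 = 1 := by
      set q := (Nat.card F : ZMod p)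
      linear_combination (q + 1) * (q ^ 3 - 1) * hq
    rw [e6, one_pow, Nat.cast_one]

end CfsgLib.Chev.Ree
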