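/-
Arithmetic of the orders of the small Ree groups.
-/
import Mathlib

set_option autoImplicit false

namespace CfsgLib.Chev.Ree

/-- the parameter -/
def qq (m : ℕ) : ℕ := 3 ^ (2 * m + 1)

/-- the root of three times the parameter -/
def rr (m : ℕ) : ℕ := 3 ^ (m + 1)

/-- the sixth cyclotomic factor -/
def pp (m : ℕ) : ℕ := qq m * qq m - qq m + 1

variable {m : ℕ}

lemma rr_sq : rr m * rr m = 3 * qq m := by
  rw [rr, qq, ← pow_add, ← pow_succ']; ring_nf

lemma three_dvd_q : 3 ∣ qq m := dvd_pow_self 3 (by omega)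

lemma qq_pos : 0 < qq m := pow_pos (by norm_num) _

lemma q_mod8 : qq m % 8 = 3 := by
  rw [qq, pow_succ, pow_mul, Nat.mul_mod, Nat.pow_mod]; simp

lemma q_ge (hm : 1 ≤ m) : 27 ≤ qq m := by
  calc 27 = 3 ^ 3 := by norm_num
    _ ≤ qq m := Nat.pow_le_pow_right (by norm_num) (by omega)

lemma r_lt (hm : 1 ≤ m) : rr m < qq m := Nat.pow_lt_pow_right (by norm_num) (by omega)

lemma pp_eq : pp m + qq m = qq m * qq m + 1 := by
  have := Nat.le_mul_self (qq m)
  rw [pp]; omega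

lemma cube_eq : qq m ^ 3 + 1 = (qq m + 1) * pp m := by
  have e : ((pp m : ℕ) : ℤ) + qq m = qq m * qq m + 1 := by exact_mod_cast pp_eq
  zify
  linear_combination -((qq m : ℤ) + 1) * e

lemma pp_factor (hm : 1 ≤ m) :
    pp m = (qq m - rr m + 1) * (qq m + rr m + 1) := by
  have e : ((pp m : ℕ) : ℤ) + qq m = qq m * qq m + 1 := by exact_mod_cast pp_eq
  have h2 : ((rr m : ℕ) : ℤ) * rr m = 3 * qq m := by exact_mod_cast rr_sq
  zify [(r_lt hm).le]
  linear_combination e + h2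

lemma pp_gt (hm : 1 ≤ m) : 25 * qq m ≤ pp m := by
  have := q_ge hm
  have e := pp_eq (m := m)
  have : 27 * qq m ≤ qq m * qq m := Nat.mul_le_mul_right _ this
  omega

lemma not_three_sub (hm : 1 ≤ m) : ¬ 3 ∣ qq m - 1 := by
  have := q_ge hm
  have := three_dvd_q (m := m)
  omega

lemma not_three_add : ¬ 3 ∣ qq m + 1 := by
  have := three_dvd_q (m := m)
  omega

lemma not_three_pp : ¬ 3 ∣ pp m := by
  intro h
  have e := pp_eq (m := m)
  have h2 : 3 ∣ qq m * qq m := three_dvd_q.mul_right _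
  have h3 := three_dvd_q (m := m)
  omega

lemma odd_pp : Odd (pp m) := by
  rw [Nat.odd_iff]
  have e := pp_eq (m := m)
  have h := q_mod8 (m := m)
  have h2 : qq m * qq m % 2 = 1 := by
    rw [Nat.mul_mod]; simp [show qq m % 2 = 1 by omega]
  omega

lemma gcd_sub_add {n : ℕ} (h1 : n ∣ qq m - 1) (h2 : n ∣ qq m + 1) : n ∣ 2 := by
  have := Nat.dvd_sub h2 h1
  have := qq_pos (m := m)
  rwa [show qq m + 1 - (qq m - 1) = 2 by omega] at *

lemma gcd_add_pp {n : ℕ} (h1 : n ∣ qq m + 1) (h2 : n ∣ pp m) : n = 1 := by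
  have h1' : (n : ℤ) ∣ (qq m : ℤ) + 1 := by exact_mod_cast Int.natCast_dvd_natCast.2 h1
  have h2' : (n : ℤ) ∣ (pp m : ℤ) := Int.natCast_dvd_natCast.2 h2
  have e : ((pp m : ℕ) : ℤ) + qq m = qq m * qq m + 1 := by exact_mod_cast pp_eq
  have h3 : (n : ℤ) ∣ 3 := by
    have := dvd_sub h2' (h1'.mul_right ((qq m : ℤ) - 2))
    rwa [show (pp m : ℤ) - ((qq m : ℤ) + 1) * ((qq m : ℤ) - 2) = 3 by linear_combination e] at this
  rcases (Nat.dvd_prime Nat.prime_three).1 (by exact_mod_cast h3 : n ∣ 3) with h | h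
  · exact h
  · exact absurd (h ▸ h1) not_three_add

lemma gcd_sub_pp {n : ℕ} (h1 : n ∣ qq m - 1) (h2 : n ∣ pp m) : n = 1 := by
  obtain ⟨k, hk⟩ := h1
  have hpos := qq_pos (m := m)
  have e := pp_eq (m := m)
  have hq : qq m = n * k + 1 := by omega
  have h3 : n ∣ qq m * qq m - qq m := by
    refine ⟨k * qq m, ?_⟩
    rw [← Nat.sub_one_mul, hk]; ring
  have h4 := (Nat.dvd_add_right h3).1 (show n ∣ qq m * qq m - qq m + 1 from h2)
  exact Nat.dvd_one.1 h4

/-- the order of the group -/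
def gOrd (m : ℕ) : ℕ := qq m ^ 3 * (qq m - 1) * (qq m ^ 3 + 1)

lemma gOrd_eq : gOrd m = qq m ^ 3 * (qq m - 1) * ((qq m + 1) * pp m) := by rw [gOrd, cube_eq]

lemma prime_cases {p : ℕ} (hp : p.Prime) (h : p ∣ gOrd m) :
    p = 3 ∨ p ∣ qq m - 1 ∨ p ∣ qq m + 1 ∨ p ∣ pp m := by
  rw [gOrd_eq] at h
  rcases hp.dvd_mul.1 h with h | h
  · rcases hp.dvd_mul.1 h with h | h
    · exact Or.inl ((Nat.prime_dvd_prime_iff_eq hp Nat.prime_three).1
        (hp.dvd_of_dvd_pow (hp.dvd_of_dvd_pow h)))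
    · exact Or.inr (Or.inl h)
  · rcases hp.dvd_mul.1 h with h | h
    · exact Or.inr (Or.inr (Or.inl h))
    · exact Or.inr (Or.inr (Or.inr h))

lemma three_part : ∃ k, gOrd m = 3 ^ (3 * (2 * m + 1)) * k ∧ (1 ≤ m → ¬ 3 ∣ k) := by
  refine ⟨(qq m - 1) * ((qq m + 1) * pp m), ?_, fun hm h => ?_⟩
  · rw [gOrd_eq, mul_assoc, qq, ← pow_mul, mul_comm (2 * m + 1) 3]
  · rcases Nat.prime_three.dvd_mul.1 h with h | h
    · exact not_three_sub hm h
    · rcases Nat.prime_three.dvd_mul.1 h with h | h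
      · exact not_three_add h
      · exact not_three_pp h

lemma quarter : 4 * ((qq m + 1) / 4) = qq m + 1 ∧ Odd ((qq m + 1) / 4) := by
  have h := q_mod8 (m := m)
  rw [Nat.odd_iff]
  omega

lemma half : 2 * ((qq m - 1) / 2) = qq m - 1 ∧ Odd ((qq m - 1) / 2) := by
  have h := q_mod8 (m := m)
  rw [Nat.odd_iff]
  omega

end CfsgLib.Chev.Ree
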