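/-
Counting the elements conjugate into a trivial-intersection set.
-/
import Mathlib

set_option autoImplicit false

namespace CfsgLib.Chev.Ree

variable {G : Type*} [Group G]

/-- the centraliser of one element -/
abbrev Cn (x : G) : Subgroup G := Subgroup.centralizer ({x} : Set G)

lemma mem_Cn {x g : G} : g ∈ Cn x ↔ g * x = x * g := Subgroup.mem_centralizer_singleton_iff

lemma mem_Cn_conj {x g : G} : g ∈ Cn x ↔ g * x * g⁻¹ = x := by
  rw [mem_Cn, mul_inv_eq_iff_eq_mul]

lemma Cn_conj (g x : G) : Cn (g * x * g⁻¹) = (Cn x).map (MulAut.conj g).toMonoidHom := by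
  ext y
  rw [Subgroup.mem_map, mem_Cn]
  constructor
  · intro h
    refine ⟨g⁻¹ * y * g, mem_Cn.2 ?_, by simp; group⟩
    calc g⁻¹ * y * g * x = g⁻¹ * (y * (g * x * g⁻¹)) * g := by group
      _ = g⁻¹ * (g * x * g⁻¹ * y) * g := by rw [h]
      _ = x * (g⁻¹ * y * g) := by group
  · rintro ⟨z, hz, rfl⟩
    rw [mem_Cn] at hz
    show g * z * g⁻¹ * (g * x * g⁻¹) = g * x * g⁻¹ * (g * z * g⁻¹)
    calc g * z * g⁻¹ * (g * x * g⁻¹) = g * (z * x) * g⁻¹ := by group
      _ = g * (x * z) * g⁻¹ := by rw [hz]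
      _ = _ := by group

lemma card_Cn_conj (g x : G) : Nat.card ↥(Cn (g * x * g⁻¹)) = Nat.card ↥(Cn x) := by
  rw [Cn_conj, Subgroup.card_map_of_injective (MulAut.conj g).injective]

/-- conjugate into a set -/
def ConjIn (A : Set G) (y : G) : Prop := ∃ g, ∃ x ∈ A, g * x * g⁻¹ = y

/-- **elements conjugate into a trivial-intersection set** -/
theorem card_conjIn [Finite G] (A : Set G) (N : Subgroup G)
    (hA : ∀ n ∈ N, ∀ x ∈ A, n * x * n⁻¹ ∈ A)
    (hTI : ∀ g : G, ∀ x ∈ A, g * x * g⁻¹ ∈ A → g ∈ N) :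
    Nat.card {y // ConjIn A y} * Nat.card N = Nat.card A * Nat.card G := by
  classical
  choose s a ha he using fun y : {y // ConjIn A y} => y.2
  refine (Nat.card_prod _ _).symm.trans (Eq.trans ?_ (Nat.card_prod _ _))
  refine (Nat.card_congr (Equiv.ofBijective
    (fun p : {y // ConjIn A y} × N =>
      ((⟨(p.2 : G)⁻¹ * a p.1 * p.2, by simpa using hA _ (inv_mem p.2.2) _ (ha p.1)⟩ : A),
        s p.1 * p.2)) ⟨?_, ?_⟩))
  · rintro ⟨y, n⟩ ⟨y', n'⟩ h
    simp only [Prod.mk.injEq, Subtype.mk.injEq] at h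
    have hy : y = y' := by
      refine Subtype.ext ?_
      rw [← he y, ← he y',
        show s y * a y * (s y)⁻¹ = (s y * n) * ((n : G)⁻¹ * a y * n) * (s y * n)⁻¹ by group, h.1, h.2]
      group
    subst hy
    exact Prod.ext rfl (Subtype.ext (mul_left_cancel h.2))
  · rintro ⟨⟨x, hx⟩, g⟩
    set y : {y // ConjIn A y} := ⟨g * x * g⁻¹, g, x, hx, rfl⟩
    have h1 := he y
    have hn : (s y)⁻¹ * g ∈ N := by
      refine hTI _ x hx ?_
      rw [show (s y)⁻¹ * g * x * ((s y)⁻¹ * g)⁻¹ = (s y)⁻¹ * (g * x * g⁻¹) * s y by group]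
      have e : (s y)⁻¹ * (g * x * g⁻¹) * s y = a y := by
        show (s y)⁻¹ * (y : G) * s y = a y
        rw [← h1]; group
      rw [e]
      exact ha y
    refine ⟨(y, ⟨_, hn⟩), Prod.ext (Subtype.ext ?_) (by group)⟩
    show ((s y)⁻¹ * g)⁻¹ * a y * ((s y)⁻¹ * g) = x
    have e : s y * a y * (s y)⁻¹ = g * x * g⁻¹ := h1
    calc ((s y)⁻¹ * g)⁻¹ * a y * ((s y)⁻¹ * g) = g⁻¹ * (s y * a y * (s y)⁻¹) * g := by group
      _ = x := by rw [e]; group

lemma orderOf_conj (g x : G) : orderOf (g * x * g⁻¹) = orderOf x :=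
  orderOf_injective (MulAut.conj g).toMonoidHom (MulAut.conj g).injective x

lemma orderOf_conjIn {A : Set G} {y : G} (h : ConjIn A y) : ∃ x ∈ A, orderOf y = orderOf x := by
  obtain ⟨g, x, hx, rfl⟩ := h
  exact ⟨x, hx, orderOf_conj g x⟩

/-- subgroups of a cyclic group are determined by their orders -/
theorem cyclic_unique [Finite G] {A B C : Subgroup G} [IsCyclic A] (hB : B ≤ A) (hC : C ≤ A)
    (h : Nat.card B = Nat.card C) : B = C := by
  classical
  have := Fintype.ofFinite A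
  set k := Nat.card B
  have key : ∀ B : Subgroup G, B ≤ A → Nat.card B = k →
      (B.subgroupOf A : Set A) = {x | x ^ k = 1} := by
    intro B hB hk
    refine Set.eq_of_subset_of_ncard_le ?_ ?_ (Set.toFinite _)
    · intro x hx
      have := pow_card_eq_one' (G := B) (x := ⟨(x : G), Subgroup.mem_subgroupOf.1 hx⟩)
      rw [hk] at this
      show x ^ k = 1
      exact Subtype.ext ((congrArg Subtype.val this :))
    · rw [Set.ncard_eq_toFinset_card', ← Nat.card_coe_set_eq, SetLike.coe_sort_coe,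
        Nat.card_congr (Subgroup.subgroupOfEquivOfLe hB).toEquiv, hk]
      simpa using IsCyclic.card_pow_eq_one_le (α := A) (n := k) (hk ▸ Nat.card_pos)
  have e : B.subgroupOf A = C.subgroupOf A :=
    SetLike.coe_injective ((key B hB rfl).trans (key C hC h.symm).symm)
  ext x
  constructor
  · intro hx
    have : (⟨x, hB hx⟩ : A) ∈ C.subgroupOf A := e ▸ Subgroup.mem_subgroupOf.2 hx
    exact Subgroup.mem_subgroupOf.1 this
  · intro hx
    have : (⟨x, hC hx⟩ : A) ∈ B.subgroupOf A := e ▸ Subgroup.mem_subgroupOf.2 hx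
    exact Subgroup.mem_subgroupOf.1 this

/-- in a cyclic group the normaliser of a subgroup contains the normaliser of the whole -/
theorem norm_cyclic_le [Finite G] {A B : Subgroup G} [IsCyclic A] (hB : B ≤ A) :
    Subgroup.normalizer (A : Set G) ≤ Subgroup.normalizer (B : Set G) := by
  intro g hg
  have e : B.map (MulAut.conj g).toMonoidHom = B := by
    refine cyclic_unique ?_ hB (Subgroup.card_map_of_injective (MulAut.conj g).injective)
    rintro _ ⟨x, hx, rfl⟩
    exact (Subgroup.mem_normalizer_iff.1 hg x).1 (hB hx)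
  refine Subgroup.mem_normalizer_iff.2 fun x => ?_
  constructor
  · intro hx
    rw [← e]
    exact ⟨x, hx, rfl⟩
  · intro hx
    rw [← e] at hx
    obtain ⟨y, hy, hxy⟩ := hx
    rw [← (MulAut.conj g).injective hxy]
    exact hy

/-- subgroups of order `p` are conjugate when a Sylow subgroup is cyclic -/
theorem conj_of_cyclic_sylow [Finite G] {p : ℕ} [Fact p.Prime]
    (hc : ∀ P : Sylow p G, IsCyclic (P : Subgroup G)) {x y : G} (hx : orderOf x = p)
    (hy : orderOf y = p) : ∃ g : G, Subgroup.zpowers (g * x * g⁻¹) = Subgroup.zpowers y := by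
  obtain ⟨P, hP⟩ := (IsPGroup.of_card (p := p) (n := 1)
    (G := Subgroup.zpowers x) (by rw [Nat.card_zpowers, hx, pow_one])).exists_le_sylow
  obtain ⟨Q, hQ⟩ := (IsPGroup.of_card (p := p) (n := 1)
    (G := Subgroup.zpowers y) (by rw [Nat.card_zpowers, hy, pow_one])).exists_le_sylow
  obtain ⟨g, hg⟩ := MulAction.exists_smul_eq G P Q
  refine ⟨g, ?_⟩
  have := hc Q
  refine cyclic_unique (A := (Q : Subgroup G)) (Subgroup.zpowers_le.2 ?_) hQ ?_
  · rw [← hg, Sylow.coe_subgroup_smul]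
    exact ⟨x, hP (Subgroup.mem_zpowers x), rfl⟩
  · rw [Nat.card_zpowers, Nat.card_zpowers, orderOf_conj, hx, hy]

end CfsgLib.Chev.Ree
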