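/-
Abstract data of a small Ree group and its first consequences.
-/
import Cfsg.Agent.Lib.Chev.Ree.Arith
import Cfsg.Agent.Lib.Chev.Ree.Conj

set_option autoImplicit false

namespace CfsgLib.Chev.Ree

/-- the data -/
structure Sys (G : Type*) [Group G] (m : ℕ) where
  a : G
  U : Subgroup G
  H : Subgroup G
  hm : 1 ≤ m
  card : Nat.card G = gOrd m
  syl2 : ∀ P : Sylow 2 G, Nat.card P = 8 ∧ (∀ x ∈ P, x * x = 1) ∧
    Subgroup.centralizer ((P : Subgroup G) : Set G) = P ∧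
    Nat.card (Subgroup.normalizer ((P : Subgroup G) : Set G)) = 168
  cyc : ∀ (p : ℕ) [Fact p.Prime], 3 < p → ∀ P : Sylow p G, IsCyclic (P : Subgroup G)
  ha1 : a ≠ 1
  ha2 : a * a = 1
  inv_conj : ∀ x : G, x * x = 1 → x ≠ 1 → ∃ g, g * a * g⁻¹ = x
  card_Ca : Nat.card ↥(Cn a) = qq m * (qq m - 1) * (qq m + 1)
  cTorus : ∀ p : ℕ, p.Prime → p ≠ 2 → p ∣ qq m + 1 → ∀ y ∈ Cn a, orderOf y = p →
    IsMulCommutative ↥(Cn a ⊓ Cn y) ∧ Nat.card ↥(Cn a ⊓ Cn y) = qq m + 1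
  cFour : ∀ b ∈ Cn a, b * b = 1 → b ≠ 1 → b ≠ a →
    Nat.card ↥(Cn a ⊓ Cn b) = 2 * (qq m + 1)
  cardU : Nat.card U = qq m ^ 3
  ti : ∀ g w z : G, w ∈ U → w ≠ 1 → g * w * g⁻¹ ∈ U → z ∈ U → g * z * g⁻¹ ∈ U
  normU : ∀ g : G, g ∈ Subgroup.normalizer (U : Set G) ↔ ∃ u ∈ U, ∃ h ∈ H, g = u * h
  exp9 : ∀ u ∈ U, u ^ 9 = 1
  count3 : Nat.card {u : U // orderOf u = 3} = qq m ^ 2 - 1
  cardUa : Nat.card ↥(U ⊓ Cn a) = qq m
  cubeUa : ∀ u ∈ U ⊓ Cn a, u ^ 3 = 1
  hcyc : IsCyclic H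
  cardH : Nat.card H = qq m - 1
  haH : a ∈ H
  hCent : ∀ h ∈ H, h * h ≠ 1 → Cn h = H
  hNorm : Nat.card (Subgroup.normalizer (H : Set G)) = 2 * (qq m - 1)
  six : ∀ p : ℕ, p.Prime → p ∣ pp m → ∀ x : G, orderOf x = p →
    IsMulCommutative ↥(Cn x) ∧
      (Cn x).relIndex (Subgroup.normalizer ((Subgroup.zpowers x : Subgroup G) : Set G)) ∣ 6

variable {G : Type*} [Group G] {m : ℕ}

lemma mem_conj_map {g x : G} {A : Subgroup G} :
    x ∈ A.map (MulAut.conj g).toMonoidHom ↔ g⁻¹ * x * g ∈ A := by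
  constructor
  · rintro ⟨y, hy, rfl⟩
    simpa [mul_assoc] using hy
  · intro h
    exact ⟨g⁻¹ * x * g, h, by simp; group⟩

lemma card_conj_map (g : G) (A : Subgroup G) :
    Nat.card ↥(A.map (MulAut.conj g).toMonoidHom) = Nat.card A :=
  Subgroup.card_map_of_injective (MulAut.conj g).injective

namespace Sys

variable (S : Sys G m)
include S

lemma finite : Finite G :=
  Nat.finite_of_card_ne_zero (by
    rw [S.card, gOrd]
    have := q_ge S.hm
    exact mul_ne_zero (mul_ne_zero (pow_ne_zero _ (by omega)) (by omega)) (by omega))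

lemma two_elt {g : G} {k : ℕ} (h : g ^ (2 ^ k) = 1) : g * g = 1 := by
  haveI := S.finite
  obtain ⟨j, -, hj⟩ := (Nat.dvd_prime_pow Nat.prime_two).1 (orderOf_dvd_of_pow_eq_one h)
  haveI : Fact (Nat.Prime 2) := ⟨Nat.prime_two⟩
  obtain ⟨P, hP⟩ := (IsPGroup.of_card (p := 2) (n := j) (G := Subgroup.zpowers g)
    (by rw [Nat.card_zpowers, hj])).exists_le_sylow
  exact (S.syl2 P).2.1 g (hP (Subgroup.mem_zpowers g))

lemma not_four (g : G) : ¬ 4 ∣ orderOf g := by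
  haveI := S.finite
  intro h
  have ho := orderOf_pow_orderOf_div (orderOf_pos g).ne' h
  set x := g ^ (orderOf g / 4)
  have h2 := S.two_elt (g := x) (k := 2) (by rw [← pow_orderOf_eq_one x, ho]; norm_num)
  have := Nat.le_of_dvd two_pos (orderOf_dvd_of_pow_eq_one (show x ^ 2 = 1 by rw [sq, h2]))
  omega

lemma dvd_gOrd (g : G) : orderOf g ∣ gOrd m := S.card ▸ orderOf_dvd_natCard g

lemma prime_gt {p : ℕ} (hp : p.Prime) (h2 : p ≠ 2) (h3 : p ≠ 3) : 3 < p := by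
  have := hp.two_le; omega

lemma orderOf_a : orderOf S.a = 2 :=
  orderOf_eq_prime (by rw [sq, S.ha2]) S.ha1

/-- conjugating a three-group into `U` -/
lemma three_le_U {P : Subgroup G} (hP : IsPGroup 3 P) :
    ∃ g, P ≤ S.U.map (MulAut.conj g).toMonoidHom := by
  haveI := S.finite
  haveI : Fact (Nat.Prime 3) := ⟨Nat.prime_three⟩
  obtain ⟨k, hk, hnd⟩ := three_part (m := m)
  have hk0 : k ≠ 0 := fun e => hnd S.hm (e ▸ dvd_zero 3)
  have hUc : Nat.card S.U = 3 ^ ((Nat.card G).factorization 3) := by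
    rw [S.cardU, S.card, hk, Nat.factorization_mul (pow_ne_zero _ (by norm_num)) hk0,
      Finsupp.add_apply, Nat.prime_three.factorization_pow, Finsupp.single_eq_same,
      Nat.factorization_eq_zero_of_not_dvd (hnd S.hm), add_zero, qq, ← pow_mul, mul_comm]
  obtain ⟨Q, hQ⟩ := hP.exists_le_sylow
  obtain ⟨g, hg⟩ := MulAction.exists_smul_eq G (Sylow.ofCard S.U hUc) Q
  refine ⟨g, hQ.trans (le_of_eq ?_)⟩
  rw [← hg, Sylow.coe_subgroup_smul, Sylow.coe_ofCard]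
  rfl

lemma conj_U {x : G} {k : ℕ} (hx : x ^ 3 ^ k = 1) : ∃ g, g * x * g⁻¹ ∈ S.U := by
  obtain ⟨j, -, hj⟩ := (Nat.dvd_prime_pow Nat.prime_three).1 (orderOf_dvd_of_pow_eq_one hx)
  obtain ⟨g, hg⟩ := S.three_le_U (IsPGroup.of_card (p := 3) (n := j) (G := Subgroup.zpowers x)
    (by rw [Nat.card_zpowers, hj]))
  exact ⟨g⁻¹, by simpa using mem_conj_map.1 (hg (Subgroup.mem_zpowers x))⟩

lemma disjoint_UH : Disjoint S.U S.H := by
  refine disjoint_iff.2 (Subgroup.inf_eq_bot_of_coprime ?_)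
  rw [S.cardU, S.cardH]
  refine Nat.Coprime.pow_left _ ?_
  rw [qq, Nat.coprime_pow_left_iff (by omega), Nat.prime_three.coprime_iff_not_dvd]
  exact not_three_sub S.hm

lemma card_NU : Nat.card (Subgroup.normalizer (S.U : Set G)) = qq m ^ 3 * (qq m - 1) := by
  haveI := S.finite
  rw [← S.cardU, ← S.cardH, ← Nat.card_prod]
  refine (Nat.card_congr (Equiv.ofBijective
    (fun p : S.U × S.H => (⟨p.1 * p.2, (S.normU _).2 ⟨_, p.1.2, _, p.2.2, rfl⟩⟩ :
      Subgroup.normalizer (S.U : Set G))) ⟨?_, ?_⟩)).symm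
  · intro p p' h
    exact Subgroup.mul_injective_of_disjoint S.disjoint_UH (congrArg Subtype.val h)
  · rintro ⟨g, hg⟩
    obtain ⟨u, hu, h, hh, rfl⟩ := (S.normU g).1 hg
    exact ⟨(⟨u, hu⟩, ⟨h, hh⟩), rfl⟩

lemma ti_norm {g w : G} (hw : w ∈ S.U) (hw1 : w ≠ 1) (h : g * w * g⁻¹ ∈ S.U) :
    g ∈ Subgroup.normalizer (S.U : Set G) := by
  refine Subgroup.mem_normalizer_iff.2 fun z => ⟨fun hz => S.ti g w z hw hw1 h hz, fun hz => ?_⟩
  have := S.ti g⁻¹ (g * w * g⁻¹) (g * z * g⁻¹) h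
    (fun e => hw1 (conj_eq_one_iff.1 e)) (by rwa [show g⁻¹ * (g * w * g⁻¹) * g⁻¹⁻¹ = w by group]) hz
  rwa [show g⁻¹ * (g * z * g⁻¹) * g⁻¹⁻¹ = z by group] at this

lemma U_order {u : G} (hu : u ∈ S.U) (h1 : u ≠ 1) : orderOf u = 3 ∨ orderOf u = 9 := by
  obtain ⟨j, hj, hje⟩ := (Nat.dvd_prime_pow Nat.prime_three).1
    (orderOf_dvd_of_pow_eq_one (show u ^ 3 ^ 2 = 1 from S.exp9 u hu))
  interval_cases j
  · exact absurd (orderOf_eq_one_iff.1 (by simpa using hje)) h1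
  · exact Or.inl (by simpa using hje)
  · exact Or.inr (by simpa using hje)

/-- no element of order prime to six commutes with a three-element -/
lemma no_three_comm {u z : G} {l : ℕ} (hl : l.Prime) (hl2 : l ≠ 2) (hl3 : l ≠ 3)
    (hz : orderOf z = l) (hu : orderOf u = 3) : u * z ≠ z * u := by
  haveI := S.finite
  intro hc
  obtain ⟨g, hg⟩ := S.conj_U (x := u) (k := 1) (by rw [pow_one, ← hu, pow_orderOf_eq_one])
  set u' := g * u * g⁻¹ with hu'
  set z' := g * z * g⁻¹ with hz'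
  have hu3 : orderOf u' = 3 := by rw [hu', orderOf_conj, hu]
  have hz1 : orderOf z' = l := by rw [hz', orderOf_conj, hz]
  have hc' : u' * z' = z' * u' := by
    rw [hu', hz', show g * u * g⁻¹ * (g * z * g⁻¹) = g * (u * z) * g⁻¹ by group, hc]; group
  have hne : u' ≠ 1 := fun e => by rw [e, orderOf_one] at hu3; omega
  have hzN : z' ∈ Subgroup.normalizer (S.U : Set G) :=
    S.ti_norm hg hne (by rw [← hc', mul_inv_cancel_right]; exact hg)
  set N := Subgroup.normalizer (S.U : Set G)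
  haveI : Fact l.Prime := ⟨hl⟩
  have hUN : S.U ≤ N := Subgroup.le_normalizer
  have hHN : S.H ≤ N := fun h hh => (S.normU h).2 ⟨1, one_mem _, h, hh, (one_mul h).symm⟩
  have hld : l ∣ Nat.card S.H := by
    have := orderOf_dvd_natCard (⟨z', hzN⟩ : N)
    rw [Subgroup.orderOf_mk, hz1, S.card_NU] at this
    refine S.cardH ▸ (hl.dvd_mul.1 this).resolve_left fun e => hl3 ?_
    exact (Nat.prime_dvd_prime_iff_eq hl Nat.prime_three).1
      (hl.dvd_of_dvd_pow (hl.dvd_of_dvd_pow e))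
  obtain ⟨⟨h, hh⟩, hho⟩ := exists_prime_orderOf_dvd_card' l hld
  rw [Subgroup.orderOf_mk] at hho
  obtain ⟨x, hx⟩ := conj_of_cyclic_sylow (G := G) (S.cyc l (S.prime_gt hl hl2 hl3)) hz1 hho
  have hh2 : h * h ≠ 1 := fun e => hl2 ((Nat.prime_dvd_prime_iff_eq hl Nat.prime_two).1
    (hho ▸ orderOf_dvd_of_pow_eq_one (by rw [sq, e])))
  obtain ⟨i, hi⟩ := Subgroup.mem_zpowers_iff.1 (hx ▸ Subgroup.mem_zpowers h : h ∈ Subgroup.zpowers _)
  have hmem : x * u' * x⁻¹ ∈ Cn h := by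
    rw [mem_Cn, ← hi]
    refine (Commute.zpow_right ?_ i).eq
    show x * u' * x⁻¹ * (x * z' * x⁻¹) = x * z' * x⁻¹ * (x * u' * x⁻¹)
    rw [show x * u' * x⁻¹ * (x * z' * x⁻¹) = x * (u' * z') * x⁻¹ by group, hc']; group
  rw [S.hCent h hh hh2] at hmem
  have := orderOf_dvd_natCard (⟨_, hmem⟩ : S.H)
  rw [Subgroup.orderOf_mk, orderOf_conj, hu3, S.cardH] at this
  exact not_three_sub S.hm this

lemma three_cube {u i : G} (hi : i * i = 1) (hi1 : i ≠ 1) (hc : u * i = i * u) {k : ℕ}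
    (hu : u ^ 3 ^ k = 1) : u ^ 3 = 1 := by
  haveI := S.finite
  haveI : Fact (Nat.Prime 3) := ⟨Nat.prime_three⟩
  obtain ⟨g, rfl⟩ := S.inv_conj i hi hi1
  set w := g⁻¹ * u * g with hw
  have hwC : w ∈ Cn S.a := by
    rw [mem_Cn, hw]
    calc g⁻¹ * u * g * S.a = g⁻¹ * (u * (g * S.a * g⁻¹)) * g := by group
      _ = _ := by rw [hc]; group
  have hw3 : w ^ 3 ^ k = 1 := by
    rw [hw, show g⁻¹ * u * g = g⁻¹ * u * g⁻¹⁻¹ by group, conj_pow, hu]; group
  obtain ⟨j, -, hj⟩ := (Nat.dvd_prime_pow Nat.prime_three).1 (orderOf_dvd_of_pow_eq_one hw3)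
  obtain ⟨Q, hQ⟩ := (IsPGroup.of_card (p := 3) (n := j)
    (G := Subgroup.zpowers (⟨w, hwC⟩ : Cn S.a))
    (by rw [Nat.card_zpowers, Subgroup.orderOf_mk, hj])).exists_le_sylow
  have hVc : Nat.card ↥((S.U ⊓ Cn S.a).subgroupOf (Cn S.a)) =
      3 ^ ((Nat.card ↥(Cn S.a)).factorization 3) := by
    have h3 : ¬ 3 ∣ (qq m - 1) * (qq m + 1) := fun h => by
      rcases Nat.prime_three.dvd_mul.1 h with h | h
      exacts [not_three_sub S.hm h, not_three_add h]
    rw [Nat.card_congr (Subgroup.subgroupOfEquivOfLe inf_le_right).toEquiv, S.cardUa, S.card_Ca,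
      mul_assoc, Nat.factorization_mul qq_pos.ne' (fun e : (qq m - 1) * (qq m + 1) = 0 => h3 (e ▸ dvd_zero 3)), Finsupp.add_apply,
      Nat.factorization_eq_zero_of_not_dvd h3, add_zero, qq, Nat.prime_three.factorization_pow,
      Finsupp.single_eq_same]
  obtain ⟨c, hcQ⟩ := MulAction.exists_smul_eq ↥(Cn S.a) (Sylow.ofCard _ hVc) Q
  have := hQ (Subgroup.mem_zpowers (⟨w, hwC⟩ : Cn S.a))
  rw [← hcQ, Sylow.coe_subgroup_smul, Sylow.coe_ofCard] at this
  obtain ⟨v, hv, hvw⟩ := this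
  have hv3 : (v : G) ^ 3 = 1 := S.cubeUa _ (Subgroup.mem_subgroupOf.1 hv)
  have e : w = (c : G) * v * (c : G)⁻¹ := (congrArg Subtype.val hvw).symm
  have hw3' : w ^ 3 = 1 := by rw [e, conj_pow, hv3]; group
  rw [hw, show g⁻¹ * u * g = g⁻¹ * u * g⁻¹⁻¹ by group, conj_pow] at hw3'
  exact conj_eq_one_iff.1 hw3'

/-- orders divisible by three -/
theorem three_dvd {g : G} (h : 3 ∣ orderOf g) :
    orderOf g = 3 ∨ orderOf g = 6 ∨ orderOf g = 9 := by
  haveI := S.finite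
  set n := orderOf g with hn
  have hpos : n ≠ 0 := (orderOf_pos g).ne'
  set u := g ^ (n / 3) with hu
  have huo : orderOf u = 3 := orderOf_pow_orderOf_div hpos h
  have key : ∀ l : ℕ, l.Prime → l ∣ n → l = 2 ∨ l = 3 := by
    intro l hl hdv
    by_contra hne
    rw [not_or] at hne
    exact S.no_three_comm hl hne.1 hne.2 (orderOf_pow_orderOf_div hpos hdv) huo
      ((Commute.refl g).pow_pow _ _).eq
  obtain ⟨s, hs⟩ : ∃ s, n = 2 ^ (n.factorization 2) * s := ⟨_, (Nat.ordProj_mul_ordCompl_eq_self n 2).symm⟩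
  have hs0 : s ≠ 0 := fun e => hpos (by rw [hs, e, mul_zero])
  have hs2 : ¬ 2 ∣ s := by
    intro h2
    have : n.factorization 2 = n.factorization 2 + s.factorization 2 := by
      conv_lhs => rw [hs, Nat.factorization_mul (pow_ne_zero _ (by norm_num)) hs0, Finsupp.add_apply,
        Nat.prime_two.factorization_pow, Finsupp.single_eq_same]
    have := Nat.prime_two.factorization_pos_of_dvd hs0 h2
    omega
  obtain ⟨j, rfl⟩ : ∃ j, s = 3 ^ j := ⟨_, Nat.eq_prime_pow_of_unique_prime_dvd hs0 fun {l} hl hls =>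
    (key l hl (hs ▸ hls.mul_left _)).resolve_left fun e => hs2 (e ▸ hls)⟩
  have he : n.factorization 2 ≤ 1 := by
    by_contra he
    refine S.not_four g (dvd_trans ?_ ⟨3 ^ j, hs⟩)
    exact dvd_trans (show 4 ∣ 2 ^ 2 by norm_num) (pow_dvd_pow 2 (by omega))
  have hjle : j ≤ 2 := by
    have e3 : (g ^ 2 ^ n.factorization 2) ^ 3 ^ j = 1 := by
      rw [← pow_mul, ← hs, pow_orderOf_eq_one]
    obtain ⟨c, hc⟩ := S.conj_U e3
    have h9 := S.exp9 _ hc
    rw [conj_pow, ← pow_mul] at h9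
    have hd := orderOf_dvd_of_pow_eq_one (conj_eq_one_iff.1 h9)
    rw [← hn] at hd
    nth_rw 1 [hs] at hd
    exact (Nat.pow_dvd_pow_iff_le_right (x := 3) (by norm_num)).1
      (Nat.dvd_of_mul_dvd_mul_left (k := 2 ^ n.factorization 2) (by positivity) (by simpa using hd))
  rw [hs] at h
  have hj0 : j ≠ 0 := by
    rintro rfl
    rw [pow_zero, mul_one] at h
    exact absurd ((Nat.prime_dvd_prime_iff_eq Nat.prime_three Nat.prime_two).1
      (Nat.prime_three.dvd_of_dvd_pow h)) (by norm_num)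
  rcases (show n.factorization 2 = 0 ∨ n.factorization 2 = 1 by omega) with e2 | e2
  · rw [e2, pow_zero, one_mul] at hs
    rcases (show j = 1 ∨ j = 2 by omega) with rfl | rfl
    · exact Or.inl (by rw [hs]; rfl)
    · exact Or.inr (Or.inr (by rw [hs]; rfl))
  · rw [e2, pow_one] at hs
    rcases (show j = 1 ∨ j = 2 by omega) with rfl | rfl
    · exact Or.inr (Or.inl (by rw [hs]; rfl))
    · exfalso
      set i := g ^ 9 with hi
      have hio : orderOf i = 2 := by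
        rw [hi, orderOf_pow, ← hn, hs]; norm_num
      have hv : orderOf (g ^ 2) = 9 := by rw [orderOf_pow, ← hn, hs]; norm_num
      have := S.three_cube (u := g ^ 2) (i := i)
        (by rw [← sq, ← hio, pow_orderOf_eq_one]) (fun e => by rw [e, orderOf_one] at hio; omega)
        ((Commute.refl g).pow_pow _ _).eq (k := 2) (by rw [← pow_orderOf_eq_one (g ^ 2), hv]; norm_num)
      have := orderOf_dvd_of_pow_eq_one this
      rw [hv] at this
      exact absurd (Nat.le_of_dvd (by norm_num) this) (by norm_num)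

/-- the primes of an order prime to three -/
lemma prime_of_order {g : G} (h2 : 2 < orderOf g) (h3 : ¬ 3 ∣ orderOf g) :
    ∃ p : ℕ, p.Prime ∧ p ≠ 2 ∧ p ≠ 3 ∧ p ∣ orderOf g ∧
      (p ∣ qq m - 1 ∨ p ∣ qq m + 1 ∨ p ∣ pp m) := by
  obtain ⟨p, hp, hd, hp2⟩ : ∃ p : ℕ, p.Prime ∧ p ∣ orderOf g ∧ p ≠ 2 := by
    by_contra hne
    push Not at hne
    have e := Nat.eq_prime_pow_of_unique_prime_dvd (n := orderOf g) (p := 2) (by omega)
      fun {l} hl hd => hne l hl hd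
    refine S.not_four g (e ▸ ?_)
    refine dvd_trans (show 4 ∣ 2 ^ 2 by norm_num) (pow_dvd_pow 2 ?_)
    by_contra hlt
    have : 2 ^ (orderOf g).primeFactorsList.length ≤ 2 ^ 1 := Nat.pow_le_pow_right two_pos (by omega)
    rw [← e] at this
    omega
  have hp3 : p ≠ 3 := fun e => h3 (e ▸ hd)
  exact ⟨p, hp, hp2, hp3, hd, (prime_cases hp (hd.trans (S.dvd_gOrd g))).resolve_left hp3⟩

end Sys

end CfsgLib.Chev.Ree
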