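/-
Elements of orders two, three, six and nine.
-/
import Cfsg.Agent.Lib.Chev.Ree.Sys

set_option autoImplicit false

namespace CfsgLib.Chev.Ree.Sys

variable {G : Type*} [Group G] {m : ℕ} (S : Sys G m)
include S

lemma card_two_mul : Nat.card {g : G // orderOf g = 2} * Nat.card ↥(Cn S.a) = gOrd m := by
  haveI := S.finite
  have h := card_conjIn ({S.a} : Set G) (Cn S.a)
    (fun n hn x hx => by rw [Set.mem_singleton_iff.1 hx, Set.mem_singleton_iff]; exact mem_Cn_conj.1 hn)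
    (fun g x hx hgx => by
      rw [Set.mem_singleton_iff] at hx hgx
      subst hx
      exact mem_Cn_conj.2 hgx)
  rw [Nat.card_unique (α := ({S.a} : Set G)), one_mul, S.card] at h
  rw [← h]
  refine congrArg (· * _) (Nat.card_congr (Equiv.subtypeEquivRight fun g => ?_))
  constructor
  · intro hg
    obtain ⟨c, hc⟩ := S.inv_conj g (by rw [← sq, ← hg, pow_orderOf_eq_one])
      (fun e => by rw [e, orderOf_one] at hg; omega)
    exact ⟨c, S.a, rfl, hc⟩
  · rintro ⟨c, x, hx, rfl⟩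
    rw [Set.mem_singleton_iff] at hx
    rw [orderOf_conj, hx, S.orderOf_a]

lemma card_two : Nat.card {g : G // orderOf g = 2} = qq m ^ 2 * pp m := by
  have h := S.card_two_mul
  have := q_ge S.hm
  rw [S.card_Ca, gOrd_eq] at h
  refine Nat.eq_of_mul_eq_mul_right (m := qq m * (qq m - 1) * (qq m + 1)) ?_ (h.trans (by ring))
  exact Nat.mul_pos (Nat.mul_pos (by omega) (by omega)) (by omega)

lemma count_U {i : ℕ} (hi : i = 3 ∨ i = 9) :
    Nat.card {g : G // orderOf g = i} * (qq m ^ 3 * (qq m - 1)) =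
      Nat.card {u : S.U // orderOf u = i} * gOrd m := by
  haveI := S.finite
  rw [← S.card_NU, ← S.card]
  have h := card_conjIn {x : G | x ∈ S.U ∧ orderOf x = i} (Subgroup.normalizer (S.U : Set G))
    (fun n hn x hx => ⟨(Subgroup.mem_normalizer_iff.1 hn x).1 hx.1, by rw [orderOf_conj, hx.2]⟩)
    (fun g x hx hgx => S.ti_norm hx.1 (fun e => by
      have := hx.2; rw [e, orderOf_one] at this; omega) hgx.1)
  refine (congrArg (· * _) (Nat.card_congr (Equiv.subtypeEquivRight fun g => ?_))).trans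
    (h.trans (congrArg (· * _) (Nat.card_congr ?_)))
  · constructor
    · intro hg
      obtain ⟨c, hc⟩ := S.conj_U (x := g) (k := 2)
        (orderOf_dvd_iff_pow_eq_one.1 (by rw [hg]; rcases hi with rfl | rfl <;> norm_num))
      exact ⟨c⁻¹, c * g * c⁻¹, ⟨hc, by rw [orderOf_conj, hg]⟩, by group⟩
    · rintro ⟨c, x, hx, rfl⟩
      rw [orderOf_conj, hx.2]
  · exact
      { toFun := fun x => ⟨⟨x.1, x.2.1⟩, (Subgroup.orderOf_mk _ _).trans x.2.2⟩
        invFun := fun x => ⟨x.1.1, x.1.2, (Subgroup.orderOf_coe _).trans x.2⟩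
        left_inv := fun _ => rfl
        right_inv := fun _ => rfl }

lemma card_U_nine : Nat.card {u : S.U // orderOf u = 9} + qq m ^ 2 = qq m ^ 3 := by
  classical
  haveI := S.finite
  haveI := Fintype.ofFinite S.U
  have h3 := S.count3
  have hU := S.cardU
  rw [Nat.card_eq_fintype_card, Fintype.card_subtype, Finset.card_filter] at h3 ⊢
  rw [Nat.card_eq_fintype_card, ← Finset.card_univ, Finset.card_eq_sum_ones] at hU
  have h1 : ∑ u : S.U, (if u = 1 then 1 else 0) = 1 := by simp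
  have hsum : ∀ u : S.U, (if orderOf u = 9 then 1 else 0) + (if orderOf u = 3 then 1 else 0) +
      (if u = 1 then 1 else 0) = 1 := by
    intro u
    by_cases h : u = 1
    · simp [h]
    · rcases S.U_order u.2 (fun e => h (Subtype.ext e)) with e | e <;>
        rw [Subgroup.orderOf_coe] at e <;> simp [h, e]
  rw [← Finset.sum_congr rfl fun u _ => hsum u, Finset.sum_add_distrib, Finset.sum_add_distrib,
    h1, h3] at hU
  have : 0 < qq m ^ 2 := pow_pos qq_pos _
  omega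

lemma card_three : Nat.card {g : G // orderOf g = 3} = (qq m ^ 2 - 1) * (qq m ^ 3 + 1) := by
  have h := S.count_U (i := 3) (Or.inl rfl)
  have := q_ge S.hm
  rw [S.count3, gOrd] at h
  refine Nat.eq_of_mul_eq_mul_right (m := qq m ^ 3 * (qq m - 1)) ?_ (h.trans (by ring))
  exact Nat.mul_pos (pow_pos (by omega) _) (by omega)

lemma card_nine : Nat.card {g : G // orderOf g = 9} = qq m ^ 2 * (qq m - 1) * (qq m ^ 3 + 1) := by
  have h := S.count_U (i := 9) (Or.inr rfl)
  have hq := q_ge S.hm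
  have h9 := S.card_U_nine
  have e : Nat.card {u : S.U // orderOf u = 9} = qq m ^ 2 * (qq m - 1) := by
    rw [Nat.mul_sub, mul_one, show qq m ^ 2 * qq m = qq m ^ 3 by ring]
    omega
  rw [e, gOrd] at h
  refine Nat.eq_of_mul_eq_mul_right (m := qq m ^ 3 * (qq m - 1)) ?_ (h.trans (by ring))
  exact Nat.mul_pos (pow_pos (by omega) _) (by omega)

lemma card_cent_three :
    Nat.card {u : G // orderOf u = 3 ∧ u ∈ Cn S.a} = qq m ^ 2 - 1 := by
  classical
  haveI := S.finite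
  haveI : Fact (Nat.Prime 3) := ⟨Nat.prime_three⟩
  set C := Cn S.a with hC
  set N := (Subgroup.normalizer (S.U : Set G)).subgroupOf C
  have hq := q_ge S.hm
  have hH : S.H ≤ C := fun h hh => by
    haveI := S.hcyc
    obtain ⟨c, hc⟩ := IsCyclic.exists_generator (α := S.H)
    obtain ⟨i, hi⟩ := Subgroup.mem_zpowers_iff.1 (hc ⟨h, hh⟩)
    obtain ⟨j, hj⟩ := Subgroup.mem_zpowers_iff.1 (hc ⟨S.a, S.haH⟩)
    refine mem_Cn.2 ?_
    have : (⟨h, hh⟩ : S.H) * ⟨S.a, S.haH⟩ = ⟨S.a, S.haH⟩ * ⟨h, hh⟩ := by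
      rw [← hi, ← hj, ← zpow_add, ← zpow_add, add_comm]
    exact congrArg Subtype.val this
  have hN : Nat.card N = qq m * (qq m - 1) := by
    refine Eq.trans ?_ (congrArg₂ (· * ·) S.cardUa S.cardH)
    show Nat.card N = Nat.card ↥(S.U ⊓ Cn S.a) * Nat.card S.H
    rw [← Nat.card_prod]
    refine (Nat.card_congr (Equiv.ofBijective
      (fun p : ↥(S.U ⊓ Cn S.a) × S.H => (⟨⟨p.1 * p.2, mul_mem p.1.2.2 (hH p.2.2)⟩,
        Subgroup.mem_subgroupOf.2 ((S.normU _).2 ⟨_, p.1.2.1, _, p.2.2, rfl⟩)⟩ : N)) ⟨?_, ?_⟩)).symm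
    · rintro ⟨u, h⟩ ⟨u', h'⟩ e
      have := @Subgroup.mul_injective_of_disjoint _ _ _ _ S.disjoint_UH
        (⟨u, u.2.1⟩, h) (⟨u', u'.2.1⟩, h') (congrArg (fun x : N => ((x : C) : G)) e)
      rw [Prod.mk.injEq, Subtype.mk.injEq] at this
      exact Prod.ext (Subtype.ext this.1) this.2
    · rintro ⟨⟨g, hg⟩, hgN⟩
      obtain ⟨u, hu, h, hh, e⟩ := (S.normU g).1 (Subgroup.mem_subgroupOf.1 hgN)
      refine ⟨(⟨u, hu, ?_⟩, ⟨h, hh⟩), Subtype.ext (Subtype.ext e.symm)⟩
      rw [show u = g * h⁻¹ by rw [e]; group]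
      show g * h⁻¹ ∈ C
      exact mul_mem hg (inv_mem (hH hh))
  have h := card_conjIn {x : C | (x : G) ∈ S.U ∧ orderOf (x : G) = 3} N
    (fun n hn x hx => ⟨(Subgroup.mem_normalizer_iff.1 (Subgroup.mem_subgroupOf.1 hn) _).1 hx.1, by
      rw [Subgroup.coe_mul, Subgroup.coe_mul, Subgroup.coe_inv, orderOf_conj, hx.2]⟩)
    (fun g x hx hgx => Subgroup.mem_subgroupOf.2 (S.ti_norm hx.1 (fun e => by
      have := hx.2; rw [e, orderOf_one] at this; omega) hgx.1))
  have hA : Nat.card {x : C | (x : G) ∈ S.U ∧ orderOf (x : G) = 3} = qq m - 1 := by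
    haveI := Fintype.ofFinite ↥(S.U ⊓ Cn S.a)
    have e : {x : C | (x : G) ∈ S.U ∧ orderOf (x : G) = 3} ≃ {x : ↥(S.U ⊓ Cn S.a) // x ≠ 1} :=
      { toFun := fun x => ⟨⟨x.1.1, x.2.1, x.1.2⟩, fun e => by
          have := x.2.2
          rw [congrArg Subtype.val e, Subgroup.coe_one, orderOf_one] at this
          omega⟩
        invFun := fun x => ⟨⟨x.1.1, x.1.2.2⟩, x.1.2.1,
          orderOf_eq_prime (S.cubeUa _ x.1.2) fun e => x.2 (Subtype.ext e)⟩
        left_inv := fun _ => rfl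
        right_inv := fun _ => rfl }
    rw [Nat.card_congr e, Nat.card_eq_fintype_card, Fintype.card_subtype_compl,
      Fintype.card_subtype_eq, ← Nat.card_eq_fintype_card, S.cardUa]
  rw [hA, hN, S.card_Ca] at h
  have e : Nat.card {u : G // orderOf u = 3 ∧ u ∈ Cn S.a} =
      Nat.card {y // ConjIn {x : C | (x : G) ∈ S.U ∧ orderOf (x : G) = 3} y} := by
    refine Nat.card_congr
      { toFun := fun u => ⟨⟨u.1, u.2.2⟩, ?_⟩
        invFun := fun y => ⟨y.1.1, ?_, y.1.2⟩
        left_inv := fun _ => rfl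
        right_inv := fun _ => rfl }
    · obtain ⟨u, hu, huC⟩ := u
      have hVc : Nat.card ↥((S.U ⊓ Cn S.a).subgroupOf C) =
          3 ^ ((Nat.card ↥C).factorization 3) := by
        have h3 : ¬ 3 ∣ (qq m - 1) * (qq m + 1) := fun h => by
          rcases Nat.prime_three.dvd_mul.1 h with h | h
          exacts [not_three_sub S.hm h, not_three_add h]
        rw [Nat.card_congr (Subgroup.subgroupOfEquivOfLe inf_le_right).toEquiv, S.cardUa, S.card_Ca,
          mul_assoc, Nat.factorization_mul qq_pos.ne'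
            (fun e : (qq m - 1) * (qq m + 1) = 0 => h3 (e ▸ dvd_zero 3)), Finsupp.add_apply,
          Nat.factorization_eq_zero_of_not_dvd h3, add_zero, qq,
          Nat.prime_three.factorization_pow, Finsupp.single_eq_same]
      obtain ⟨Q, hQ⟩ := (IsPGroup.of_card (p := 3) (n := 1)
        (G := Subgroup.zpowers (⟨u, huC⟩ : C))
        (by rw [Nat.card_zpowers, Subgroup.orderOf_mk, hu, pow_one])).exists_le_sylow
      obtain ⟨c, hcQ⟩ := MulAction.exists_smul_eq C (Sylow.ofCard _ hVc) Q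
      have hm := hQ (Subgroup.mem_zpowers (⟨u, huC⟩ : C))
      rw [← hcQ, Sylow.coe_subgroup_smul, Sylow.coe_ofCard] at hm
      obtain ⟨v, hv, hvu⟩ := hm
      have he : c * v * c⁻¹ = (⟨u, huC⟩ : C) := hvu
      refine ⟨c, v, ⟨(Subgroup.mem_subgroupOf.1 hv).1, ?_⟩, he⟩
      rw [← orderOf_conj (c : G) (v : G)]
      exact (congrArg (fun z : C => orderOf (z : G)) he).trans hu
    · obtain ⟨c, x, hx, he⟩ := y.2
      rw [← he, Subgroup.coe_mul, Subgroup.coe_mul, Subgroup.coe_inv, orderOf_conj, hx.2]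
  rw [← e] at h
  rw [show qq m ^ 2 - 1 = (qq m + 1) * (qq m - 1) by rw [← Nat.sq_sub_sq, one_pow]]
  refine Nat.eq_of_mul_eq_mul_right (m := qq m * (qq m - 1))
    (Nat.mul_pos (by omega) (by omega)) (h.trans (by ring))

lemma card_six : Nat.card {g : G // orderOf g = 6} = qq m ^ 2 * pp m * (qq m ^ 2 - 1) := by
  classical
  haveI := S.finite
  haveI := Fintype.ofFinite G
  have hfib : ∀ i : {g : G // orderOf g = 2},
      Nat.card {u : G // orderOf u = 3 ∧ u ∈ Cn i.1} = qq m ^ 2 - 1 := by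
    rintro ⟨i, hi⟩
    obtain ⟨c, rfl⟩ := S.inv_conj i (by rw [← sq, ← hi, pow_orderOf_eq_one])
      (fun e => by rw [e, orderOf_one] at hi; omega)
    rw [← S.card_cent_three]
    refine Nat.card_congr (Equiv.subtypeEquiv (MulAut.conj c⁻¹).toEquiv fun u => ?_)
    show orderOf u = 3 ∧ u ∈ Cn (c * S.a * c⁻¹) ↔
      orderOf (c⁻¹ * u * c⁻¹⁻¹) = 3 ∧ c⁻¹ * u * c⁻¹⁻¹ ∈ Cn S.a
    rw [orderOf_conj, Cn_conj, mem_conj_map, inv_inv]
  have e : {g : G // orderOf g = 6} ≃
      Σ i : {g : G // orderOf g = 2}, {u : G // orderOf u = 3 ∧ u ∈ Cn i.1} :=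
    { toFun := fun g => ⟨⟨g.1 ^ 3, by rw [orderOf_pow, g.2]; rfl⟩,
        ⟨g.1 ^ 4, by rw [orderOf_pow, g.2]; rfl, mem_Cn.2 ((Commute.refl g.1).pow_pow 4 3).eq⟩⟩
      invFun := fun p => ⟨p.1.1 * p.2.1, by
        rw [(show Commute p.1.1 p.2.1 from (mem_Cn.1 p.2.2.2).symm).orderOf_mul_eq_mul_orderOf_of_coprime
          (by rw [p.1.2, p.2.2.1]; norm_num), p.1.2, p.2.2.1]⟩
      left_inv := fun g => Subtype.ext (by
        show g.1 ^ 3 * g.1 ^ 4 = g.1
        have h6 : g.1 ^ 6 = 1 := by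
          have := pow_orderOf_eq_one g.1
          rwa [g.2] at this
        rw [← pow_add, show (3 : ℕ) + 4 = 6 + 1 by norm_num, pow_succ, h6, one_mul])
      right_inv := by
        rintro ⟨⟨i, hi⟩, ⟨u, hu, huc⟩⟩
        have hc : Commute i u := (mem_Cn.1 huc).symm
        have hi2 : i ^ 2 = 1 := by rw [← hi, pow_orderOf_eq_one]
        have hu3 : u ^ 3 = 1 := by rw [← hu, pow_orderOf_eq_one]
        have e1 : (i * u) ^ 3 = i := by rw [hc.mul_pow, hu3, mul_one, pow_succ, hi2, one_mul]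
        have e2 : (i * u) ^ 4 = u := by
          rw [hc.mul_pow, show (4 : ℕ) = 2 * 2 by norm_num, pow_mul, hi2, one_pow, one_mul,
            show (2 : ℕ) * 2 = 3 + 1 by norm_num, pow_succ, hu3, one_mul]
        refine Sigma.subtype_ext (Subtype.ext e1) e2 }
  rw [Nat.card_congr e, Nat.card_sigma, Finset.sum_congr rfl fun i _ => hfib i,
    Finset.sum_const, Finset.card_univ, ← Nat.card_eq_fintype_card, S.card_two, smul_eq_mul]

end CfsgLib.Chev.Ree.Sys
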