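/-
Self-centralising abelian subgroups of a small Ree group.
-/
import Cfsg.Agent.Lib.Chev.Ree.Sys

set_option autoImplicit false

namespace CfsgLib.Chev.Ree

variable {G : Type*} [Group G] {m : ℕ}

/-- an abelian subgroup which is the centraliser of each of its elements of order above two -/
structure Tor (S : Sys G m) (T : Subgroup G) (k : ℕ) : Prop where
  comm : IsMulCommutative T
  card : Nat.card T = k
  three : ¬ 3 ∣ k
  cent : ∀ z ∈ T, z * z ≠ 1 → Cn z = T

lemma sq_ne_of_order {z : G} (h : 2 < orderOf z) : z * z ≠ 1 := fun e => by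
  have := Nat.le_of_dvd two_pos (orderOf_dvd_of_pow_eq_one (show z ^ 2 = 1 by rw [sq, e]))
  omega

lemma order_of_sq_ne [Finite G] {z : G} (h : z * z ≠ 1) : 2 < orderOf z := by
  by_contra hle
  have := orderOf_pos z
  rcases (show orderOf z = 1 ∨ orderOf z = 2 by omega) with e | e
  · exact h (by rw [orderOf_eq_one_iff.1 e, one_mul])
  · exact h (by rw [← sq, ← e, pow_orderOf_eq_one])

lemma two_lt_of_odd [Finite G] {z : G} (h : Odd (orderOf z)) (h1 : z ≠ 1) : 2 < orderOf z := by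
  have := orderOf_pos z
  have : orderOf z ≠ 1 := fun e => h1 (orderOf_eq_one_iff.1 e)
  rw [Nat.odd_iff] at h
  omega

namespace Tor

variable {S : Sys G m} {T : Subgroup G} {k : ℕ} (hT : Tor S T k)
include hT

lemma mul_comm' {x y : G} (hx : x ∈ T) (hy : y ∈ T) : x * y = y * x :=
  congrArg Subtype.val (hT.comm.is_comm.comm ⟨x, hx⟩ ⟨y, hy⟩)

lemma order_dvd {x : G} (hx : x ∈ T) : orderOf x ∣ k := by
  have := orderOf_dvd_natCard (⟨x, hx⟩ : T)
  rwa [Subgroup.orderOf_mk, hT.card] at this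

/-- the elements of odd order -/
def odd : Subgroup G where
  carrier := {x | x ∈ T ∧ Odd (orderOf x)}
  one_mem' := ⟨one_mem _, by rw [orderOf_one]; exact odd_one⟩
  mul_mem' := fun {x y} hx hy => ⟨mul_mem hx.1 hy.1, Odd.of_dvd_nat (hx.2.mul hy.2)
    ((show Commute x y from hT.mul_comm' hx.1 hy.1).orderOf_mul_dvd_mul_orderOf)⟩
  inv_mem' := fun {x} hx => ⟨inv_mem hx.1, by rw [orderOf_inv]; exact hx.2⟩

lemma odd_le : hT.odd ≤ T := fun _ hx => hx.1

lemma odd_cyclic : IsCyclic hT.odd := by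
  haveI := S.finite
  haveI : IsMulCommutative hT.odd :=
    ⟨⟨fun a b => Subtype.ext (hT.mul_comm' a.2.1 b.2.1)⟩⟩
  open scoped IsMulCommutative in
  haveI : IsZGroup hT.odd := by
    refine ⟨fun p hp P => ?_⟩
    haveI : Fact p.Prime := ⟨hp⟩
    rcases subsingleton_or_nontrivial (P : Subgroup hT.odd) with h | h
    · exact isCyclic_of_subsingleton
    · obtain ⟨x, hx⟩ := exists_ne (1 : (P : Subgroup hT.odd))
      obtain ⟨j, hj⟩ := (IsPGroup.iff_orderOf.1 P.2) x
      have hj0 : j ≠ 0 := fun e => hx (orderOf_eq_one_iff.1 (by rw [hj, e, pow_zero]))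
      have hd : p ∣ orderOf ((x : hT.odd) : G) := by
        rw [Subgroup.orderOf_coe, Subgroup.orderOf_coe, hj]; exact dvd_pow_self p hj0
      have h2 : p ≠ 2 := fun e => Nat.not_even_iff_odd.2 (x : hT.odd).2.2 (even_iff_two_dvd.2 (e ▸ hd))
      have h3 : p ≠ 3 := fun e => hT.three (e ▸ hd.trans (hT.order_dvd (x : hT.odd).2.1))
      obtain ⟨Q, hQ⟩ := (P.2.map hT.odd.subtype).exists_le_sylow
      haveI := S.cyc p (S.prime_gt hp h2 h3) Q
      exact isCyclic_of_injective ((Subgroup.inclusion hQ).comp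
          ((P : Subgroup hT.odd).equivMapOfInjective _ hT.odd.subtype_injective).toMonoidHom)
        ((Subgroup.inclusion_injective hQ).comp (MulEquiv.injective _))
  open scoped IsMulCommutative in
  infer_instance

/-- the cardinalities of the two parts -/
lemma split {e c : ℕ} (hk : k = 2 ^ e * c) (hc : Odd c) :
    Nat.card hT.odd = c ∧ Nat.card {x : T // x * x = 1} = 2 ^ e := by
  haveI := S.finite
  haveI := hT.comm
  open scoped IsMulCommutative in
  let φ : T →* T := powMonoidHom c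
  have hcop : Nat.Coprime c (2 ^ e) := (Nat.coprime_two_right.2 hc).pow_right _
  have hker : φ.ker.map T.subtype = hT.odd := by
    ext x
    constructor
    · rintro ⟨⟨y, hy⟩, hy', rfl⟩
      refine ⟨hy, Odd.of_dvd_nat hc (orderOf_dvd_of_pow_eq_one ?_)⟩
      exact congrArg Subtype.val (MonoidHom.mem_ker.1 hy')
    · rintro ⟨hx, ho⟩
      refine ⟨⟨x, hx⟩, MonoidHom.mem_ker.2 (Subtype.ext ?_), rfl⟩
      show x ^ c = 1
      refine orderOf_dvd_iff_pow_eq_one.1 ?_
      exact ((Nat.coprime_two_right.2 ho).pow_right _).dvd_of_dvd_mul_left (hk ▸ hT.order_dvd hx)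
  have hrange : (φ.range : Set T) = {x | x * x = 1} := by
    ext x
    constructor
    · rintro ⟨y, rfl⟩
      show y ^ c * y ^ c = 1
      refine Subtype.ext (S.two_elt (k := e) ?_)
      show ((y : G) ^ c) ^ 2 ^ e = 1
      rw [← pow_mul, mul_comm, ← hk]
      exact orderOf_dvd_iff_pow_eq_one.1 (hT.order_dvd y.2)
    · intro hx
      obtain ⟨j, hj⟩ := hc
      refine ⟨x, ?_⟩
      show x ^ c = x
      rw [hj, pow_succ, pow_mul, sq, show x * x = 1 from hx, one_pow, one_mul]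
  have hker' : Nat.card φ.ker = Nat.card hT.odd := by
    rw [← hker, Subgroup.card_map_of_injective T.subtype_injective]
  have hran : Nat.card φ.range = Nat.card {x : T // x * x = 1} :=
    Nat.card_congr (Equiv.setCongr hrange)
  have hmul : Nat.card hT.odd * Nat.card {x : T // x * x = 1} = k := by
    rw [← hker', ← hran, ← hT.card, ← φ.ker.card_mul_index]
    exact congrArg _ (Subgroup.index_ker φ).symm
  haveI : Fact (Nat.Prime 2) := ⟨Nat.prime_two⟩
  obtain ⟨j, hj⟩ := (IsPGroup.iff_card (p := 2) (G := φ.range)).1 (fun x => ⟨1, by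
    have : (x : T) * x = 1 := (Set.ext_iff.1 hrange x).1 x.2
    exact Subtype.ext (by rw [pow_one]; simpa [sq] using this)⟩)
  rw [hran] at hj
  have hodd : Odd (Nat.card hT.odd) := by
    rw [Nat.odd_iff, ← Nat.two_dvd_ne_zero]
    intro h
    obtain ⟨x, hx⟩ := exists_prime_orderOf_dvd_card' (G := hT.odd) 2 h
    have := x.2.2
    rw [Subgroup.orderOf_coe, hx] at this
    exact absurd this (by decide)
  rw [hj] at hmul
  replace hmul := hmul.trans hk
  have h1 : Nat.card hT.odd = c := by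
    refine Nat.dvd_antisymm ?_ ?_
    · exact ((Nat.coprime_two_right.2 hodd).pow_right e).dvd_of_dvd_mul_left ⟨2 ^ j, hmul.symm⟩
    · exact ((Nat.coprime_two_right.2 hc).pow_right j).dvd_of_dvd_mul_right
        (hmul ▸ dvd_mul_left c (2 ^ e))
  refine ⟨h1, ?_⟩
  rw [h1, mul_comm] at hmul
  rw [hj]
  exact Nat.eq_of_mul_eq_mul_right hc.pos hmul

lemma cent_conj {y g : G} (hy : g⁻¹ * y * g ∈ T) (h2 : y * y ≠ 1) :
    Cn y = T.map (MulAut.conj g).toMonoidHom := by
  conv_lhs => rw [show y = g * (g⁻¹ * y * g) * g⁻¹ by group]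
  rw [Cn_conj, hT.cent _ hy fun e => h2 ?_]
  rw [show y * y = g * (g⁻¹ * y * g * (g⁻¹ * y * g)) * g⁻¹ by group, e]; group

lemma cover {g : G} {p : ℕ} (hp : p.Prime) (h2 : p ≠ 2) (hk : p ∣ k) (hg : p ∣ orderOf g) :
    ∃ x, x⁻¹ * g * x ∈ T := by
  haveI := S.finite
  haveI : Fact p.Prime := ⟨hp⟩
  have h3 : p ≠ 3 := fun e => hT.three (e ▸ hk)
  obtain ⟨⟨y, hy⟩, hyo⟩ := exists_prime_orderOf_dvd_card' (G := T) p (hT.card ▸ hk)
  rw [Subgroup.orderOf_mk] at hyo
  have hzo := orderOf_pow_orderOf_div (orderOf_pos g).ne' hg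
  set z := g ^ (orderOf g / p) with hz
  obtain ⟨x, hx⟩ := conj_of_cyclic_sylow (G := G) (S.cyc p (S.prime_gt hp h2 h3)) hyo hzo
  obtain ⟨i, hi⟩ := Subgroup.mem_zpowers_iff.1 (hx ▸ Subgroup.mem_zpowers (x * y * x⁻¹) :
    x * y * x⁻¹ ∈ Subgroup.zpowers z)
  have hyy : y * y ≠ 1 := sq_ne_of_order (by rw [hyo]; have := hp.two_le; omega)
  have hgc : g ∈ Cn (x * y * x⁻¹) := by
    rw [mem_Cn, ← hi, hz]
    exact (((Commute.refl g).pow_right _).zpow_right i).eq
  rw [Cn_conj, hT.cent y hy hyy, mem_conj_map] at hgc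
  exact ⟨x, hgc⟩

lemma cover' {g : G} (h2 : 2 < orderOf g) (hg : orderOf g ∣ k) : ∃ x, x⁻¹ * g * x ∈ T := by
  obtain ⟨p, hp, hp2, -, hpd, -⟩ := S.prime_of_order h2 fun h => hT.three (h.trans hg)
  exact hT.cover hp hp2 (hpd.trans hg) hpd

lemma mem_norm {g z : G} (hz : z ∈ T) (h2 : z * z ≠ 1) (h : g * z * g⁻¹ ∈ T) :
    g ∈ Subgroup.normalizer (T : Set G) := by
  have e := Cn_conj g z
  rw [hT.cent z hz h2, hT.cent _ h fun e => h2 ?_] at e
  swap
  · exact conj_eq_one_iff.1 (show g * (z * z) * g⁻¹ = 1 by rw [← e]; group)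
  refine Subgroup.mem_normalizer_iff.2 fun x => ⟨fun hx => e ▸ ⟨x, hx, rfl⟩, fun hx => ?_⟩
  rw [e, mem_conj_map] at hx
  simpa [mul_assoc] using hx

lemma count (P : ℕ → Prop) (hP : ∀ n, P n → 2 < n) :
    Nat.card {g // (∃ x, x⁻¹ * g * x ∈ T) ∧ P (orderOf g)} *
        Nat.card (Subgroup.normalizer (T : Set G)) =
      Nat.card {x : T // P (orderOf x)} * Nat.card G := by
  haveI := S.finite
  have h := card_conjIn {x | x ∈ T ∧ P (orderOf x)} (Subgroup.normalizer (T : Set G))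
    (fun n hn x hx => ⟨(Subgroup.mem_normalizer_iff.1 hn x).1 hx.1,
      (orderOf_conj n x).symm ▸ hx.2⟩)
    (fun g x hx hgx => hT.mem_norm hx.1 (sq_ne_of_order (hP _ hx.2)) hgx.1)
  refine (congrArg (· * _) (Nat.card_congr (Equiv.subtypeEquivRight fun g => ?_))).trans
    (h.trans (congrArg (· * _) (Nat.card_congr ?_)))
  · constructor
    · rintro ⟨⟨x, hx⟩, hg⟩
      refine ⟨x, x⁻¹ * g * x, ⟨hx, ?_⟩, by group⟩
      rwa [show x⁻¹ * g * x = x⁻¹ * g * x⁻¹⁻¹ by group, orderOf_conj]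
    · rintro ⟨x, y, ⟨hy, hPy⟩, rfl⟩
      exact ⟨⟨x, by simpa [mul_assoc] using hy⟩, (orderOf_conj x y).symm ▸ hPy⟩
  · exact
      { toFun := fun x => ⟨⟨x.1, x.2.1⟩, by rw [Subgroup.orderOf_mk]; exact x.2.2⟩
        invFun := fun x => ⟨x.1.1, x.1.2, by rw [Subgroup.orderOf_coe]; exact x.2⟩
        left_inv := fun _ => rfl
        right_inv := fun _ => rfl }

lemma count_order {i : ℕ} (h2 : 2 < i) (hi : i ∣ k) :
    Nat.card {g : G // orderOf g = i} * Nat.card (Subgroup.normalizer (T : Set G)) =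
      Nat.card {x : T // orderOf x = i} * Nat.card G := by
  rw [← hT.count (· = i) (fun n hn => hn ▸ h2)]
  refine congrArg (· * _) (Nat.card_congr (Equiv.subtypeEquivRight fun g => ⟨fun h => ⟨?_, h⟩,
    fun h => h.2⟩))
  exact hT.cover' (by omega) (h ▸ hi)

lemma card_order_odd {i : ℕ} (hi : Odd i) (hd : i ∣ Nat.card hT.odd) :
    Nat.card {x : T // orderOf x = i} = Nat.totient i := by
  classical
  haveI := S.finite
  haveI := hT.odd_cyclic
  haveI := Fintype.ofFinite hT.odd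
  rw [← IsCyclic.card_orderOf_eq_totient (α := hT.odd) (by rwa [← Nat.card_eq_fintype_card]),
    ← Fintype.card_subtype, ← Nat.card_eq_fintype_card]
  exact Nat.card_congr
    { toFun := fun x => ⟨⟨x.1.1, x.1.2, ((Subgroup.orderOf_coe x.1).trans x.2).symm ▸ hi⟩,
        (Subgroup.orderOf_mk _ _).trans ((Subgroup.orderOf_coe x.1).trans x.2)⟩
      invFun := fun y => ⟨⟨y.1.1, y.1.2.1⟩,
        (Subgroup.orderOf_mk _ _).trans ((Subgroup.orderOf_coe y.1).trans y.2)⟩
      left_inv := fun _ => rfl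
      right_inv := fun _ => rfl }

lemma cent_sub {A : Subgroup G} (hA : A ≤ hT.odd) (hne : A ≠ ⊥) :
    Subgroup.centralizer (A : Set G) = T := by
  haveI := S.finite
  obtain ⟨⟨z, hz⟩, hz1⟩ := (Subgroup.ne_bot_iff_exists_ne_one (H := A)).1 hne
  have hz1' : z ≠ 1 := fun e => hz1 (Subtype.ext e)
  refine le_antisymm ?_ fun x hx => Subgroup.mem_centralizer_iff.2 fun y hy =>
    hT.mul_comm' (hA hy).1 hx
  rw [← hT.cent z (hA hz).1 (sq_ne_of_order (two_lt_of_odd (hA hz).2 hz1'))]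
  exact Subgroup.centralizer_le (Set.singleton_subset_iff.2 hz)

lemma norm_sub {A : Subgroup G} (hA : A ≤ hT.odd) (hne : A ≠ ⊥) :
    Subgroup.normalizer (A : Set G) = Subgroup.normalizer (T : Set G) ∧
      Subgroup.normalizer (A : Set G) = Subgroup.normalizer (hT.odd : Set G) := by
  haveI := S.finite
  haveI := hT.odd_cyclic
  have h1 : Subgroup.normalizer (hT.odd : Set G) ≤ Subgroup.normalizer (A : Set G) := norm_cyclic_le hA
  have h2 : Subgroup.normalizer (A : Set G) ≤ Subgroup.normalizer (T : Set G) := by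
    intro g hg
    obtain ⟨⟨z, hz⟩, hz1⟩ := (Subgroup.ne_bot_iff_exists_ne_one (H := A)).1 hne
    exact hT.mem_norm (hA hz).1
      (sq_ne_of_order (two_lt_of_odd (hA hz).2 fun e => hz1 (Subtype.ext e)))
      (hA ((Subgroup.mem_normalizer_iff.1 hg z).1 hz)).1
  have h3 : Subgroup.normalizer (T : Set G) ≤ Subgroup.normalizer (hT.odd : Set G) := fun g hg =>
    Subgroup.mem_normalizer_iff.2 fun x => and_congr (Subgroup.mem_normalizer_iff.1 hg x)
      (by rw [orderOf_conj])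
  exact ⟨le_antisymm h2 (h3.trans h1), le_antisymm (h2.trans h3) h1⟩

/-- cyclic subgroups of odd order go into the odd part -/
lemma cyclic_conj {A : Subgroup G} (hA : IsCyclic A) (h1 : 1 < Nat.card A) (hodd : Odd (Nat.card A))
    (hd : Nat.card A ∣ k) : ∃ x, A.map (MulAut.conj x⁻¹).toMonoidHom ≤ hT.odd := by
  haveI := S.finite
  obtain ⟨⟨g, hg⟩, hgen⟩ := IsCyclic.exists_generator (α := A)
  have hgo : orderOf g = Nat.card A := by
    rw [← orderOf_eq_card_of_forall_mem_zpowers hgen, Subgroup.orderOf_mk]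
  obtain ⟨x, hx⟩ := hT.cover' (g := g) (by rw [hgo]; rw [Nat.odd_iff] at hodd; omega) (hgo ▸ hd)
  refine ⟨x, ?_⟩
  rintro _ ⟨y, hy, rfl⟩
  obtain ⟨i, hi⟩ := Subgroup.mem_zpowers_iff.1 (hgen ⟨y, hy⟩)
  have hy' : g ^ i = y := congrArg Subtype.val hi
  refine ⟨?_, ?_⟩
  · simp only [MulEquiv.coe_toMonoidHom, MulAut.conj_apply, inv_inv, ← hy']
    rw [show x⁻¹ * g ^ i * x = (x⁻¹ * g * x) ^ i by
      rw [show x⁻¹ * g * x = x⁻¹ * g * x⁻¹⁻¹ by group, conj_zpow]; group]
    exact zpow_mem hx i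
  · simp only [MulEquiv.coe_toMonoidHom, MulAut.conj_apply]
    rw [orderOf_conj]
    have := orderOf_dvd_natCard (⟨y, hy⟩ : A)
    rw [Subgroup.orderOf_mk] at this
    exact Odd.of_dvd_nat hodd this

lemma cyclic_unique_conj {A B : Subgroup G} (hA : IsCyclic A) (hB : IsCyclic B)
    (h1 : 1 < Nat.card A) (hodd : Odd (Nat.card A)) (hd : Nat.card A ∣ k)
    (h : Nat.card A = Nat.card B) :
    ∃ g : G, B = A.map (MulAut.conj g).toMonoidHom := by
  haveI := S.finite
  obtain ⟨x, hx⟩ := hT.cyclic_conj hA h1 hodd hd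
  obtain ⟨y, hy⟩ := hT.cyclic_conj hB (h ▸ h1) (h ▸ hodd) (h ▸ hd)
  haveI := hT.odd_cyclic
  have e := cyclic_unique hx hy (by rw [card_conj_map, card_conj_map, h])
  refine ⟨y * x⁻¹, ?_⟩
  ext z
  rw [mem_conj_map]
  have e' := SetLike.ext_iff.1 e (y⁻¹ * z * y)
  rw [mem_conj_map, mem_conj_map] at e'
  rw [show (y * x⁻¹)⁻¹ * z * (y * x⁻¹) = x⁻¹⁻¹ * (y⁻¹ * z * y) * x⁻¹ by group, e']
  simp [mul_assoc]

lemma cent_cyclic {A : Subgroup G} (hA : IsCyclic A) (h1 : 1 < Nat.card A) (hodd : Odd (Nat.card A))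
    (hd : Nat.card A ∣ k) :
    ∃ x, ∀ B : Subgroup G, B ≤ A → B ≠ ⊥ →
      Subgroup.centralizer (B : Set G) = T.map (MulAut.conj x).toMonoidHom := by
  haveI := S.finite
  obtain ⟨x, hx⟩ := hT.cyclic_conj hA h1 hodd hd
  refine ⟨x, fun B hB hne => ?_⟩
  have e := hT.cent_sub (A := B.map (MulAut.conj x⁻¹).toMonoidHom) ((Subgroup.map_mono hB).trans hx)
    fun e => hne ((Subgroup.map_eq_bot_iff_of_injective _ (MulAut.conj x⁻¹).injective).1 e)
  ext z
  rw [mem_conj_map, ← e, Subgroup.mem_centralizer_iff, Subgroup.mem_centralizer_iff]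
  constructor
  · rintro h _ ⟨b, hb, rfl⟩
    have := h b hb
    show x⁻¹ * b * x⁻¹⁻¹ * (x⁻¹ * z * x) = x⁻¹ * z * x * (x⁻¹ * b * x⁻¹⁻¹)
    rw [show x⁻¹ * b * x⁻¹⁻¹ * (x⁻¹ * z * x) = x⁻¹ * (b * z) * x by group, this]; group
  · intro h b hb
    have := h _ ⟨b, hb, rfl⟩
    change x⁻¹ * b * x⁻¹⁻¹ * (x⁻¹ * z * x) = x⁻¹ * z * x * (x⁻¹ * b * x⁻¹⁻¹) at this
    calc b * z = x * (x⁻¹ * b * x⁻¹⁻¹ * (x⁻¹ * z * x)) * x⁻¹ := by group
      _ = _ := by rw [this]; group

end Tor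

namespace Sys

variable (S : Sys G m)
include S

lemma torH : Tor S S.H (qq m - 1) where
  comm := by
    haveI := S.hcyc
    infer_instance
  card := S.cardH
  three := not_three_sub S.hm
  cent := S.hCent

end Sys

end CfsgLib.Chev.Ree
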