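/-
The torus of order `q + 1` and the four-groups of a small Ree group.
-/
import Cfsg.Agent.Lib.Chev.Ree.Tor
import Cfsg.Agent.Lib.Coprime.Action2

set_option autoImplicit false

namespace CfsgLib.Chev.Ree

/-- automisers of a four-group when two-elements of the normaliser centralise -/
theorem four_act {G : Type*} [Group G] [Finite G] {V : Subgroup G} (hV : Nat.card V = 4)
    (hinv : ∀ t ∈ Subgroup.normalizer (V : Set G), ∀ j, t ^ 2 ^ j = 1 →
      t ∈ Subgroup.centralizer (V : Set G)) :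
    Nat.card (Subgroup.normalizer (V : Set G)) ∣ 3 * Nat.card (Subgroup.centralizer (V : Set G)) ∧
    ∀ g ∈ Subgroup.normalizer (V : Set G), ¬ 3 ∣ orderOf g → g ∈ Subgroup.centralizer (V : Set G) := by
  classical
  haveI := Fintype.ofFinite V
  set N := Subgroup.normalizer (V : Set G) with hN
  have hCN : Subgroup.centralizer (V : Set G) ≤ N := fun g hg =>
    Subgroup.mem_normalizer_iff.2 fun x => ⟨fun hx => by
      rwa [← Subgroup.mem_centralizer_iff.1 hg x hx, mul_inv_cancel_right], fun hx => by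
      have := Subgroup.mem_centralizer_iff.1 hg _ hx
      have e : g * x * g⁻¹ = x :=
        mul_left_cancel (a := g) (by
          calc g * (g * x * g⁻¹) = g * x * g⁻¹ * g := this.symm
            _ = g * x := by group)
      rwa [e] at hx⟩
  let ψ : N →* Equiv.Perm {x : V // x ≠ 1} :=
    { toFun := fun n => Equiv.Perm.subtypePerm ((V.normalizerMonoidHom n).toEquiv : Equiv.Perm V) (fun x =>
        not_congr (map_eq_one_iff _ (V.normalizerMonoidHom n).injective))
      map_one' := by ext x; simp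
      map_mul' := fun n n' => by ext x; simp }
  have hker : ∀ g : N, ψ g = 1 ↔ (g : G) ∈ Subgroup.centralizer (V : Set G) := by
    intro g
    have e : V.normalizerMonoidHom g = 1 ↔ (g : G) ∈ Subgroup.centralizer (V : Set G) := by
      rw [← MonoidHom.mem_ker, Subgroup.normalizerMonoidHom_ker, Subgroup.mem_subgroupOf]
    rw [← e]
    constructor
    · intro h
      refine MulEquiv.ext fun x => ?_
      by_cases hx : x = 1
      · rw [hx, map_one]; rfl
      · exact congrArg Subtype.val (Equiv.congr_fun h ⟨x, hx⟩)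
    · intro h
      ext x
      simp [ψ, h]
  have hcardP : Nat.card ψ.range ∣ 6 := by
    refine ψ.range.card_subgroup_dvd_card.trans (dvd_of_eq ?_)
    rw [Nat.card_perm, Nat.card_eq_fintype_card, Fintype.card_subtype_compl,
      Fintype.card_subtype_eq, ← Nat.card_eq_fintype_card, hV]
    rfl
  have hodd : ¬ 2 ∣ Nat.card ψ.range := by
    intro h
    haveI : Fact (Nat.Prime 2) := ⟨Nat.prime_two⟩
    obtain ⟨⟨_, g, rfl⟩, hy⟩ := exists_prime_orderOf_dvd_card' (G := ψ.range) 2 h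
    rw [← Subgroup.orderOf_coe] at hy
    change orderOf (ψ g) = 2 at hy
    set s := orderOf g / 2 ^ (orderOf g).factorization 2
    have hs : ¬ 2 ∣ s := Nat.not_dvd_ordCompl Nat.prime_two (orderOf_pos g).ne'
    have ht : (g ^ s : N) ^ 2 ^ (orderOf g).factorization 2 = 1 := by
      rw [← pow_mul, mul_comm, Nat.ordProj_mul_ordCompl_eq_self, pow_orderOf_eq_one]
    have h1 := (hker _).2 (hinv _ (g ^ s).2 _ (congrArg Subtype.val ht))
    rw [map_pow] at h1
    have := orderOf_dvd_of_pow_eq_one h1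
    rw [hy] at this
    exact hs this
  have h3 : Nat.card ψ.range ∣ 3 :=
    ((Nat.prime_two.coprime_iff_not_dvd.2 hodd).symm).dvd_of_dvd_mul_left
      (show Nat.card ψ.range ∣ 2 * 3 from hcardP)
  refine ⟨?_, fun g hg h => (hker ⟨g, hg⟩).1 ?_⟩
  · have e : Nat.card ψ.ker = Nat.card (Subgroup.centralizer (V : Set G)) := by
      rw [show ψ.ker = (Subgroup.centralizer (V : Set G)).subgroupOf N by ext x; exact hker x]
      exact Nat.card_congr (Subgroup.subgroupOfEquivOfLe hCN).toEquiv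
    rw [← ψ.ker.card_mul_index, Subgroup.index_ker, e, mul_comm 3]
    exact mul_dvd_mul_left _ h3
  · have h1 : orderOf (ψ ⟨g, hg⟩) ∣ orderOf g := by
      have := orderOf_map_dvd ψ ⟨g, hg⟩
      rwa [Subgroup.orderOf_mk] at this
    have h2 : orderOf (ψ ⟨g, hg⟩) ∣ 3 := by
      refine dvd_trans ?_ h3
      have := orderOf_dvd_natCard (ψ.rangeRestrict ⟨g, hg⟩)
      rwa [← Subgroup.orderOf_coe] at this
    rcases (Nat.dvd_prime Nat.prime_three).1 h2 with e | e
    · exact orderOf_eq_one_iff.1 e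
    · exact absurd (e ▸ h1) h

lemma comm_of_sq {G : Type*} [Group G] {V : Subgroup G} (h : ∀ x ∈ V, x * x = 1) {x y : G}
    (hx : x ∈ V) (hy : y ∈ V) : x * y = y * x := by
  rw [← inv_eq_of_mul_eq_one_right (h _ (mul_mem hx hy)), mul_inv_rev,
    inv_eq_of_mul_eq_one_right (h _ hx), inv_eq_of_mul_eq_one_right (h _ hy)]

lemma not_cyclic_four {V : Type*} [Group V] [Finite V] (h4 : Nat.card V = 4) (h : ∀ x : V, x * x = 1) :
    ¬ IsCyclic V := by
  intro hc
  obtain ⟨g, hg⟩ := IsCyclic.exists_generator (α := V)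
  have := orderOf_eq_card_of_forall_mem_zpowers hg
  have h2 := Nat.le_of_dvd two_pos (orderOf_dvd_of_pow_eq_one (show g ^ 2 = 1 by rw [sq, h]))
  omega

namespace Sys

variable {G : Type*} [Group G] {m : ℕ} (S : Sys G m)
include S

/-- two-elements commute with a two-group they normalise -/
lemma two_comm {V : Subgroup G} (hV : IsPGroup 2 V) {t : G}
    (ht : t ∈ Subgroup.normalizer (V : Set G)) {j : ℕ} (hj : t ^ 2 ^ j = 1) :
    t ∈ Subgroup.centralizer (V : Set G) := by
  haveI := S.finite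
  haveI : Fact (Nat.Prime 2) := ⟨Nat.prime_two⟩
  obtain ⟨i, -, hi⟩ := (Nat.dvd_prime_pow Nat.prime_two).1 (orderOf_dvd_of_pow_eq_one hj)
  have hP := IsPGroup.to_sup_of_normal_right' (IsPGroup.of_card (p := 2) (n := i)
    (G := Subgroup.zpowers t) (by rw [Nat.card_zpowers, hi])) hV (Subgroup.zpowers_le.2 ht)
  obtain ⟨Q, hQ⟩ := hP.exists_le_sylow
  exact Subgroup.mem_centralizer_iff.2 fun v hv => comm_of_sq (S.syl2 Q).2.1
    (hQ ((le_sup_right : V ≤ Subgroup.zpowers t ⊔ V) hv)) (hQ ((le_sup_left : Subgroup.zpowers t ≤ _) (Subgroup.mem_zpowers t)))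

lemma cent_y {p : ℕ} (hp : p.Prime) (hp2 : p ≠ 2) (hd : p ∣ qq m + 1) {y : G} (hy : y ∈ Cn S.a)
    (ho : orderOf y = p) : Cn y ≤ Cn S.a := by
  haveI := S.finite
  haveI : Fact (Nat.Prime 2) := ⟨Nat.prime_two⟩
  haveI : Fact (Nat.Prime 3) := ⟨Nat.prime_three⟩
  have hp3 : p ≠ 3 := fun e => not_three_add (e ▸ hd)
  have hysq : y * y ≠ 1 := sq_ne_of_order (by rw [ho]; have := hp.two_le; omega)
  have haC : S.a ∈ Cn y := mem_Cn.2 (mem_Cn.1 hy).symm
  set C := Cn y with hC
  have h3 : ∀ x ∈ C, orderOf x ≠ 3 := fun x hx e => S.no_three_comm hp hp2 hp3 ho e (mem_Cn.1 hx)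
  have hC3 : ¬ 3 ∣ Nat.card C := fun h => by
    obtain ⟨x, hx⟩ := exists_prime_orderOf_dvd_card' 3 h
    exact h3 _ x.2 (by rw [Subgroup.orderOf_coe, hx])
  obtain ⟨P, hP⟩ := (IsPGroup.of_card (p := 2) (n := 1) (G := Subgroup.zpowers (⟨S.a, haC⟩ : C))
    (by rw [Nat.card_zpowers, Subgroup.orderOf_mk, S.orderOf_a, pow_one])).exists_le_sylow
  obtain ⟨Q, hQ⟩ := (P.2.map C.subtype).exists_le_sylow
  have hsq : ∀ x ∈ (P : Subgroup C), x * x = 1 := fun x hx =>
    Subtype.ext ((S.syl2 Q).2.1 _ (hQ ⟨x, hx, rfl⟩))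
  haveI : IsMulCommutative (P : Subgroup C) :=
    ⟨⟨fun u v => Subtype.ext (comm_of_sq hsq u.2 v.2)⟩⟩
  have hcardP : Nat.card (P : Subgroup C) = 4 := by
    have hmap : Nat.card ↥((P : Subgroup C).map C.subtype) = Nat.card (P : Subgroup C) :=
      Subgroup.card_map_of_injective C.subtype_injective
    have h8 : Nat.card (P : Subgroup C) ∣ 2 ^ 3 := by
      rw [← hmap, show (2 : ℕ) ^ 3 = 8 by norm_num, ← (S.syl2 Q).1]
      exact Subgroup.card_dvd_of_le hQ
    have h4 : 2 ^ 2 ∣ Nat.card (P : Subgroup C) := by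
      have hTC : Nat.card ↥(Cn S.a ⊓ C) ∣ Nat.card C := Subgroup.card_dvd_of_le inf_le_right
      rw [(S.cTorus p hp hp2 hd y hy ho).2, ← (P : Subgroup C).card_mul_index] at hTC
      have h4q : 2 ^ 2 ∣ qq m + 1 := by have := q_mod8 (m := m); omega
      exact ((Nat.prime_two.coprime_iff_not_dvd.2 P.not_dvd_index).pow_left 2).dvd_of_dvd_mul_right
        (h4q.trans hTC)
    obtain ⟨j, hj, hje⟩ := (Nat.dvd_prime_pow Nat.prime_two).1 h8
    rw [hje] at h4 ⊢
    rw [Nat.pow_dvd_pow_iff_le_right (by norm_num)] at h4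
    rcases (show j = 2 ∨ j = 3 by omega) with rfl | rfl
    · rfl
    · exfalso
      have e : (P : Subgroup C).map C.subtype = (Q : Subgroup G) :=
        Subgroup.eq_of_le_of_card_ge hQ (by rw [hmap, hje, (S.syl2 Q).1]; norm_num)
      have hyQ : y ∈ Subgroup.centralizer ((Q : Subgroup G) : Set G) := by
        rw [← e]
        refine Subgroup.mem_centralizer_iff.2 ?_
        rintro _ ⟨⟨x, hx⟩, -, rfl⟩
        exact mem_Cn.1 hx
      rw [(S.syl2 Q).2.2.1] at hyQ
      exact hysq ((S.syl2 Q).2.1 y hyQ)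
  have hPC : (P : Subgroup C) ≤ Subgroup.centralizer ((P : Subgroup C) : Set C) := fun u hu =>
    Subgroup.mem_centralizer_iff.2 fun v hv => comm_of_sq hsq hv hu
  have hburn : Subgroup.normalizer ((P : Subgroup C) : Set C) ≤
      Subgroup.centralizer ((P : Subgroup C) : Set C) := by
    intro g hg
    refine (four_act hcardP (fun t ht j hj => hPC ?_)).2 g hg ?_
    · obtain ⟨i, -, hi⟩ := (Nat.dvd_prime_pow Nat.prime_two).1 (orderOf_dvd_of_pow_eq_one hj)
      have := (IsPGroup.of_card (p := 2) (n := i) (G := Subgroup.zpowers t)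
        (by rw [Nat.card_zpowers, hi])).inf_normalizer_sylow P
      exact (this.le ⟨Subgroup.mem_zpowers t, ht⟩).2
    · exact fun h => hC3 (h.trans (orderOf_dvd_natCard g))
  have hcompl := MonoidHom.ker_transferSylow_isComplement' P hburn
  set N := (MonoidHom.transferSylow P hburn).ker with hN
  have hcop : (Nat.card (P : Subgroup C)).Coprime (Nat.card N) := by
    rw [hcardP, ← hcompl.index_eq_card, show (4 : ℕ) = 2 ^ 2 by norm_num]
    exact (Nat.prime_two.coprime_iff_not_dvd.2 P.not_dvd_index).pow_left 2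
  have haP : (⟨S.a, haC⟩ : C) ∈ (P : Subgroup C) := hP (Subgroup.mem_zpowers _)
  have hNle : N ≤ (Cn S.a).subgroupOf C := by
    refine CfsgLib.Coprime.le_of_centralizer_le_of_not_isCyclic (A := (P : Subgroup C))
      (not_cyclic_four hcardP fun x => Subtype.ext (hsq x x.2)) ?_ hcop ?_
    · rw [Subgroup.normalizer_eq_top]; exact le_top
    rintro v hv hv1 z ⟨-, hz⟩
    rw [Subgroup.mem_subgroupOf, mem_Cn]
    obtain ⟨w, hw⟩ := S.inv_conj (v : G) (congrArg Subtype.val (hsq v hv))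
      (fun e => hv1 (Subtype.ext e))
    have hvy : (v : G) * y = y * v := mem_Cn.1 v.2
    have hzy : (z : G) * y = y * z := mem_Cn.1 z.2
    have hzv : (z : G) * v = v * z := congrArg Subtype.val (Subgroup.mem_centralizer_singleton_iff.1 hz)
    have hav : S.a * (v : G) = v * S.a := congrArg Subtype.val (comm_of_sq hsq haP hv)
    have conjc : ∀ u u' : G, u * u' = u' * u →
        w⁻¹ * u * w * (w⁻¹ * u' * w) = w⁻¹ * u' * w * (w⁻¹ * u * w) := fun u u' h => by
      rw [show w⁻¹ * u * w * (w⁻¹ * u' * w) = w⁻¹ * (u * u') * w by group, h]; group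
    have hwv : w⁻¹ * (v : G) * w = S.a := by rw [← hw]; group
    have hy' : w⁻¹ * y * w ∈ Cn S.a := mem_Cn.2 (hwv ▸ conjc _ _ hvy.symm)
    obtain ⟨hcomm, -⟩ := S.cTorus p hp hp2 hd _ hy' (by
      rw [show w⁻¹ * y * w = w⁻¹ * y * w⁻¹⁻¹ by group, orderOf_conj, ho])
    have m1 : w⁻¹ * (z : G) * w ∈ Cn S.a ⊓ Cn (w⁻¹ * y * w) :=
      ⟨mem_Cn.2 (hwv ▸ conjc _ _ hzv), mem_Cn.2 (conjc _ _ hzy)⟩
    have m2 : w⁻¹ * S.a * w ∈ Cn S.a ⊓ Cn (w⁻¹ * y * w) :=
      ⟨mem_Cn.2 (by
        have h := conjc _ _ hav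
        rwa [hwv] at h), mem_Cn.2 (conjc _ _ (mem_Cn.1 haC))⟩
    have e : w⁻¹ * (z : G) * w * (w⁻¹ * S.a * w) = w⁻¹ * S.a * w * (w⁻¹ * z * w) :=
      congrArg Subtype.val (hcomm.is_comm.comm ⟨_, m1⟩ ⟨_, m2⟩)
    calc (z : G) * S.a = w * (w⁻¹ * (z : G) * w * (w⁻¹ * S.a * w)) * w⁻¹ := by group
      _ = w * (w⁻¹ * S.a * w * (w⁻¹ * z * w)) * w⁻¹ := by rw [e]
      _ = _ := by group
  intro x hx
  have htop : (⊤ : Subgroup C) ≤ (Cn S.a).subgroupOf C := by
    rw [← hcompl.sup_eq_top]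
    refine sup_le hNle fun u hu => ?_
    rw [Subgroup.mem_subgroupOf, mem_Cn]
    exact congrArg Subtype.val (comm_of_sq hsq hu haP)
  exact Subgroup.mem_subgroupOf.1 (htop (Subgroup.mem_top (⟨x, hx⟩ : C)))

/-- the torus of order `q + 1` -/
theorem exists_torS : ∃ T, Tor S T (qq m + 1) ∧ S.a ∈ T ∧ T ≤ Cn S.a := by
  haveI := S.finite
  obtain ⟨h4, hodd⟩ := quarter (m := m)
  have := q_ge S.hm
  obtain ⟨p, hp, hpd⟩ := Nat.exists_prime_and_dvd (n := (qq m + 1) / 4) (by omega)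
  haveI : Fact p.Prime := ⟨hp⟩
  have hp2 : p ≠ 2 := fun e => Nat.not_even_iff_odd.2 hodd (even_iff_two_dvd.2 (e ▸ hpd))
  have hd : p ∣ qq m + 1 := h4 ▸ hpd.mul_left 4
  obtain ⟨⟨y, hy⟩, hyo⟩ := exists_prime_orderOf_dvd_card' (G := Cn S.a) p
    (S.card_Ca ▸ hd.mul_left _)
  rw [Subgroup.orderOf_mk] at hyo
  obtain ⟨hcomm, hcard⟩ := S.cTorus p hp hp2 hd y hy hyo
  refine ⟨Cn S.a ⊓ Cn y, ⟨hcomm, hcard, not_three_add, ?_⟩,
    ⟨mem_Cn.2 rfl, mem_Cn.2 (mem_Cn.1 hy).symm⟩, inf_le_left⟩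
  intro z hz hz2
  have hzT : orderOf z ∣ qq m + 1 := by
    have := orderOf_dvd_natCard (⟨z, hz⟩ : ↥(Cn S.a ⊓ Cn y))
    rwa [Subgroup.orderOf_mk, hcard] at this
  obtain ⟨l, hl, hl2, -, hlo, -⟩ := S.prime_of_order (order_of_sq_ne hz2)
    fun h => not_three_add (h.trans hzT)
  have ho := orderOf_pow_orderOf_div (orderOf_pos z).ne' hlo
  set w := z ^ (orderOf z / l) with hw
  have hwT : w ∈ Cn S.a ⊓ Cn y := pow_mem hz _
  have hcw : ∀ u ∈ Cn S.a ⊓ Cn y, ∀ v ∈ Cn S.a ⊓ Cn y, u * v = v * u := fun u hu v hv =>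
    congrArg Subtype.val (hcomm.is_comm.comm ⟨u, hu⟩ ⟨v, hv⟩)
  have heq : Cn S.a ⊓ Cn y = Cn S.a ⊓ Cn w := by
    refine Subgroup.eq_of_le_of_card_ge (fun u hu => ⟨hu.1, mem_Cn.2 (hcw u hu w hwT)⟩) ?_
    rw [hcard, (S.cTorus l hl hl2 (hlo.trans hzT) w hwT.1 ho).2]
  refine le_antisymm (fun u hu => ?_) fun u hu => mem_Cn.2 (hcw u hu z hz)
  have huw : u ∈ Cn w := mem_Cn.2 ((show Commute u z from mem_Cn.1 hu).pow_right _).eq
  rw [heq]
  exact ⟨S.cent_y hl hl2 (hlo.trans hzT) hwT.1 ho huw, huw⟩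

/-- a chosen torus of order `q + 1` -/
noncomputable def T0 : Subgroup G := S.exists_torS.choose

lemma torS : Tor S S.T0 (qq m + 1) := S.exists_torS.choose_spec.1

lemma a_mem_T0 : S.a ∈ S.T0 := S.exists_torS.choose_spec.2.1

lemma T0_le : S.T0 ≤ Cn S.a := S.exists_torS.choose_spec.2.2

/-- its four-group -/
noncomputable def V0 : Subgroup G where
  carrier := {x | x ∈ S.T0 ∧ x * x = 1}
  one_mem' := ⟨one_mem _, one_mul 1⟩
  mul_mem' := fun {x y} hx hy => ⟨mul_mem hx.1 hy.1, by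
    rw [show x * y * (x * y) = x * (y * x) * y by group, ← S.torS.mul_comm' hx.1 hy.1,
      show x * (x * y) * y = (x * x) * (y * y) by group, hx.2, hy.2, one_mul]⟩
  inv_mem' := fun {x} hx => ⟨inv_mem hx.1, by rw [inv_eq_of_mul_eq_one_right hx.2, hx.2]⟩

lemma V0_le : S.V0 ≤ S.T0 := fun _ h => h.1

lemma card_V0 : Nat.card S.V0 = 4 := by
  obtain ⟨h4, hodd⟩ := quarter (m := m)
  refine Eq.trans ?_ (S.torS.split (e := 2) (c := (qq m + 1) / 4) (by norm_num [h4]) hodd).2
  exact Nat.card_congr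
    { toFun := fun x => ⟨⟨x.1, x.2.1⟩, Subtype.ext x.2.2⟩
      invFun := fun x => ⟨x.1.1, x.1.2, congrArg Subtype.val x.2⟩
      left_inv := fun _ => rfl
      right_inv := fun _ => rfl }

lemma card_odd_T0 : Nat.card S.torS.odd = (qq m + 1) / 4 := by
  obtain ⟨h4, hodd⟩ := quarter (m := m)
  exact (S.torS.split (e := 2) (c := (qq m + 1) / 4) (by norm_num [h4]) hodd).1

lemma card_cent_V0 : Nat.card (Subgroup.centralizer (S.V0 : Set G)) = 2 * (qq m + 1) := by
  classical
  haveI := S.finite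
  haveI := Fintype.ofFinite S.V0
  have haV : S.a ∈ S.V0 := ⟨S.a_mem_T0, S.ha2⟩
  obtain ⟨b, hb⟩ : ∃ b : S.V0, b ∉ ({1, ⟨S.a, haV⟩} : Finset S.V0) := by
    by_contra h
    simp only [not_exists, not_not] at h
    have h2 := (Finset.card_le_card (s := Finset.univ) (fun x _ => h x)).trans Finset.card_le_two
    rw [Finset.card_univ, ← Nat.card_eq_fintype_card, S.card_V0] at h2
    omega
  rw [Finset.mem_insert, Finset.mem_singleton, not_or] at hb
  have hb1 : (b : G) ≠ 1 := fun e => hb.1 (Subtype.ext e)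
  have hba : (b : G) ≠ S.a := fun e => hb.2 (Subtype.ext e)
  have hbC : (b : G) ∈ Cn S.a := S.T0_le b.2.1
  rw [← S.cFour _ hbC b.2.2 hb1 hba]
  refine congrArg (fun H : Subgroup G => Nat.card H) (le_antisymm ?_ ?_)
  · intro x hx
    exact ⟨mem_Cn.2 (Subgroup.mem_centralizer_iff.1 hx _ haV).symm,
      mem_Cn.2 (Subgroup.mem_centralizer_iff.1 hx _ b.2).symm⟩
  · rintro x ⟨hxa, hxb⟩
    refine Subgroup.mem_centralizer_iff.2 fun v hv => ?_
    have hall : ({1, ⟨S.a, haV⟩, b, ⟨S.a, haV⟩ * b} : Finset S.V0) = Finset.univ := by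
      refine Finset.eq_univ_of_card _ ?_
      rw [← Nat.card_eq_fintype_card, S.card_V0, Finset.card_insert_of_notMem,
        Finset.card_insert_of_notMem, Finset.card_pair]
      · exact fun e => S.ha1 (congrArg Subtype.val (mul_eq_right.1 e.symm))
      · simp only [Finset.mem_insert, Finset.mem_singleton, not_or]
        exact ⟨fun e => hba (congrArg Subtype.val e).symm,
          fun e => hb1 (congrArg Subtype.val (mul_eq_left.1 e.symm))⟩
      · simp only [Finset.mem_insert, Finset.mem_singleton, not_or]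
        refine ⟨fun e => S.ha1 (congrArg Subtype.val e).symm, Ne.symm hb.1, fun e => hba ?_⟩
        have e' : S.a * (b : G) = 1 := (congrArg Subtype.val e).symm
        rw [← inv_eq_of_mul_eq_one_right e', inv_eq_of_mul_eq_one_right S.ha2]
    have := Finset.mem_univ (⟨v, hv⟩ : S.V0)
    rw [← hall] at this
    simp only [Finset.mem_insert, Finset.mem_singleton] at this
    have ca : Commute x S.a := mem_Cn.1 hxa
    have cb : Commute x (b : G) := mem_Cn.1 hxb
    rcases this with e | e | e | e <;> obtain rfl := congrArg Subtype.val e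
    · exact (Commute.one_left x).eq
    · exact ca.symm.eq
    · exact cb.symm.eq
    · exact (ca.mul_right cb).symm.eq

lemma V0_two : IsPGroup 2 S.V0 := IsPGroup.of_card (n := 2) S.card_V0

lemma norm_T0_le : Subgroup.normalizer (S.T0 : Set G) ≤ Subgroup.normalizer (S.V0 : Set G) :=
  fun g hg => Subgroup.mem_normalizer_iff.2 fun x =>
    and_congr (Subgroup.mem_normalizer_iff.1 hg x) (by
      rw [show g * x * g⁻¹ * (g * x * g⁻¹) = g * (x * x) * g⁻¹ by group, conj_eq_one_iff])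

lemma norm_T0_cases : Nat.card (Subgroup.normalizer (S.T0 : Set G)) = 2 * (qq m + 1) ∨
    (Nat.card (Subgroup.normalizer (S.T0 : Set G)) = 6 * (qq m + 1) ∧
      Subgroup.normalizer (S.V0 : Set G) = Subgroup.normalizer (S.T0 : Set G)) := by
  haveI := S.finite
  have hN := (four_act S.card_V0 fun t ht j hj => S.two_comm S.V0_two ht hj).1
  rw [S.card_cent_V0] at hN
  set C := Subgroup.centralizer (S.V0 : Set G)
  have hTC : S.T0 ≤ C := fun x hx => Subgroup.mem_centralizer_iff.2 fun v hv =>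
    S.torS.mul_comm' hv.1 hx
  have hidx : S.T0.relIndex C = 2 := by
    have := Subgroup.relIndex_mul_relIndex ⊥ S.T0 C bot_le hTC
    rw [Subgroup.relIndex_bot_left, Subgroup.relIndex_bot_left, S.torS.card, S.card_cent_V0,
      mul_comm 2] at this
    exact Nat.eq_of_mul_eq_mul_left (by omega) this
  have hCN : C ≤ Subgroup.normalizer (S.T0 : Set G) := by
    haveI := Subgroup.normal_of_index_eq_two (H := S.T0.subgroupOf C) hidx
    exact (Subgroup.normal_subgroupOf_iff_le_normalizer hTC).1 inferInstance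
  obtain ⟨w, hw⟩ := Subgroup.card_dvd_of_le hCN
  rw [S.card_cent_V0] at hw
  have hle := S.norm_T0_le
  have hwd : w ∣ 3 := by
    have h := (Subgroup.card_dvd_of_le hle).trans hN
    rw [hw, mul_comm 3] at h
    exact Nat.dvd_of_mul_dvd_mul_left (by omega) h
  rcases (Nat.dvd_prime Nat.prime_three).1 hwd with rfl | rfl
  · exact Or.inl (by omega)
  · refine Or.inr ⟨by omega, (Subgroup.eq_of_le_of_card_ge hle ?_).symm⟩
    rw [hw]
    exact Nat.le_of_dvd (by omega) (by rwa [mul_comm _ 3])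

end Sys

end CfsgLib.Chev.Ree
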