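/-
The tori of orders `q ± r + 1` and the classification of the elements.
-/
import Cfsg.Agent.Lib.Chev.Ree.STor
import Cfsg.Agent.Lib.Chev.Ree.Count

set_option autoImplicit false

namespace CfsgLib.Chev.Ree

variable {G : Type*} [Group G] {m : ℕ}

/-- conjugate into a subgroup -/
def CI (T : Subgroup G) (g : G) : Prop := ∃ x, x⁻¹ * g * x ∈ T

lemma order_conj_inv (x g : G) : orderOf (x⁻¹ * g * x) = orderOf g := by
  rw [show x⁻¹ * g * x = x⁻¹ * g * x⁻¹⁻¹ by group, orderOf_conj]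

lemma card_add_le {α : Type*} [Finite α] {p q r : α → Prop} (hp : ∀ x, p x → r x) (hq : ∀ x, q x → r x)
    (hd : ∀ x, p x → q x → False) :
    Nat.card {x // p x} + Nat.card {x // q x} = Nat.card {x // p x ∨ q x} ∧
      Nat.card {x // p x ∨ q x} ≤ Nat.card {x // r x} := by
  classical
  haveI := Fintype.ofFinite α
  refine ⟨?_, Nat.card_le_card_of_injective (Subtype.map id fun x hx => hx.elim (hp x) (hq x))
    (Subtype.map_injective _ Function.injective_id)⟩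
  simp only [Nat.card_eq_fintype_card]
  exact (Fintype.card_subtype_or_disjoint p q fun s hs hs' x hx => hd x (hs x hx) (hs' x hx)).symm

namespace Tor

variable {S : Sys G m} {T : Subgroup G} {k : ℕ} (hT : Tor S T k)
include hT

lemma ci_dvd {g : G} (h : CI T g) : orderOf g ∣ k := by
  obtain ⟨x, hx⟩ := h
  rw [← order_conj_inv x g]
  exact hT.order_dvd hx

lemma count_all {e c : ℕ} (hk : k = 2 ^ e * c) (hc : Odd c) :
    Nat.card {g : G // CI T g ∧ 2 < orderOf g} * Nat.card (Subgroup.normalizer (T : Set G)) =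
      (k - 2 ^ e) * Nat.card G := by
  classical
  haveI := S.finite
  haveI := Fintype.ofFinite T
  unfold CI
  rw [hT.count (2 < ·) fun n h => h]
  refine congrArg (· * _) ?_
  have e1 : Nat.card {x : T // 2 < orderOf x} = Nat.card {x : T // ¬ x * x = 1} := by
    refine Nat.card_congr (Equiv.subtypeEquivRight fun x => ⟨sq_ne_of_order, order_of_sq_ne⟩)
  rw [e1, ← (hT.split hk hc).2, Nat.card_eq_fintype_card, Fintype.card_subtype_compl,
    ← Nat.card_eq_fintype_card, ← Nat.card_eq_fintype_card, hT.card]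

lemma ci_iff {g : G} : CI T g ∧ 2 < orderOf g ↔ 2 < orderOf g ∧ orderOf g ∣ k :=
  ⟨fun h => ⟨h.2, hT.ci_dvd h.1⟩, fun h => ⟨hT.cover' h.1 h.2, h.1⟩⟩

lemma meet {T' : Subgroup G} {k' : ℕ} (hT' : Tor S T' k') {g : G} (hg : CI T g) (hg' : CI T' g)
    (h2 : 2 < orderOf g) : ∀ y ∈ T', CI T y := by
  obtain ⟨x, hx⟩ := hg
  obtain ⟨x', hx'⟩ := hg'
  intro y hy
  have e := (hT.cent_conj hx (sq_ne_of_order h2)).symm.trans (hT'.cent_conj hx' (sq_ne_of_order h2))
  refine ⟨x'⁻¹ * x, ?_⟩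
  have := (SetLike.ext_iff.1 e (x' * y * x'⁻¹)).2 (mem_conj_map.2 (by simpa [mul_assoc] using hy))
  rw [mem_conj_map] at this
  convert this using 1
  group

lemma full_part {l j : ℕ} (hl : l.Prime) (hl2 : l ≠ 2) (hlk : l ∣ k) (hj : l ^ j ∣ gOrd m) :
    l ^ j ∣ k := by
  haveI := S.finite
  haveI : Fact l.Prime := ⟨hl⟩
  obtain ⟨⟨y, hy⟩, hyo⟩ := exists_prime_orderOf_dvd_card' (G := T) l (hT.card ▸ hlk)
  rw [Subgroup.orderOf_mk] at hyo
  obtain ⟨Q, hQ⟩ := (IsPGroup.of_card (p := l) (n := 1) (G := Subgroup.zpowers y)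
    (by rw [Nat.card_zpowers, hyo, pow_one])).exists_le_sylow
  haveI := S.cyc l (S.prime_gt hl hl2 fun e => hT.three (e ▸ hlk)) Q
  have hQT : (Q : Subgroup G) ≤ T := by
    rw [← hT.cent y hy (sq_ne_of_order (by rw [hyo]; have := hl.two_le; omega))]
    intro u hu
    obtain ⟨c, hc⟩ := IsCyclic.exists_generator (α := (Q : Subgroup G))
    obtain ⟨i, hi⟩ := Subgroup.mem_zpowers_iff.1 (hc ⟨u, hu⟩)
    obtain ⟨i', hi'⟩ := Subgroup.mem_zpowers_iff.1 (hc ⟨y, hQ (Subgroup.mem_zpowers y)⟩)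
    refine mem_Cn.2 ?_
    have : (⟨u, hu⟩ : (Q : Subgroup G)) * ⟨y, hQ (Subgroup.mem_zpowers y)⟩ =
        ⟨y, hQ (Subgroup.mem_zpowers y)⟩ * ⟨u, hu⟩ := by
      rw [← hi, ← hi', ← zpow_add, ← zpow_add, add_comm]
    exact congrArg Subtype.val this
  refine dvd_trans ?_ (hT.card ▸ Subgroup.card_dvd_of_le hQT)
  rw [Sylow.card_eq_multiplicity]
  refine pow_dvd_pow l ?_
  rw [← hl.pow_dvd_iff_le_factorization Nat.card_pos.ne', S.card]
  exact hj

end Tor

namespace Sys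

variable (S : Sys G m)
include S

/-- the centraliser of an element whose order is a prime divisor of `q² - q + 1` -/
theorem torX {l : ℕ} (hl : l.Prime) (hd : l ∣ pp m) {x : G} (ho : orderOf x = l) :
    ∃ t w, Tor S (Cn x) t ∧ Odd t ∧ l ∣ t ∧ t ∣ pp m ∧ 4 < t ∧ w ∣ 6 ∧
      Nat.card (Subgroup.normalizer (Cn x : Set G)) = w * t := by
  haveI := S.finite
  obtain ⟨hcomm, hrel⟩ := S.six l hl hd x ho
  have hl2 : l ≠ 2 := fun e => Nat.not_even_iff_odd.2 odd_pp (even_iff_two_dvd.2 (e ▸ hd))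
  have hl3 : l ≠ 3 := fun e => not_three_pp (e ▸ hd)
  have hxC : x ∈ Cn x := mem_Cn.2 rfl
  have hprimes : ∀ r : ℕ, r.Prime → r ∣ Nat.card (Cn x) → r ∣ pp m := by
    intro r hr hrd
    haveI : Fact r.Prime := ⟨hr⟩
    obtain ⟨⟨z, hz⟩, hzo⟩ := exists_prime_orderOf_dvd_card' (G := Cn x) r hrd
    rw [Subgroup.orderOf_mk] at hzo
    have hzx : z * x = x * z := mem_Cn.1 hz
    have hno : ∀ (T : Subgroup G) (k : ℕ), Tor S T k → r ∣ k → r ≠ 2 →
        l ∣ k := by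
      intro T k hT hrk hr2
      obtain ⟨c, hc⟩ := hT.cover hr hr2 hrk (g := z) (hzo ▸ dvd_rfl)
      have hxz : x ∈ Cn z := mem_Cn.2 hzx.symm
      rw [hT.cent_conj hc (sq_ne_of_order (by rw [hzo]; have := hr.two_le; omega)), mem_conj_map] at hxz
      rw [← ho]
      exact hT.ci_dvd ⟨c, hxz⟩
    rcases prime_cases hr (hzo ▸ S.dvd_gOrd z) with rfl | h | h | h
    · exact absurd hzx (S.no_three_comm hl hl2 hl3 ho hzo)
    · by_cases hr2 : r = 2
      · exfalso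
        subst hr2
        obtain ⟨c, rfl⟩ := S.inv_conj z (by rw [← sq, ← hzo, pow_orderOf_eq_one])
          (fun e => by rw [e, orderOf_one] at hzo; omega)
        have hxz : x ∈ Cn (c * S.a * c⁻¹) := mem_Cn.2 hzx.symm
        rw [Cn_conj, mem_conj_map] at hxz
        have := orderOf_dvd_natCard (⟨_, hxz⟩ : Cn S.a)
        rw [Subgroup.orderOf_mk, order_conj_inv, ho, S.card_Ca] at this
        rcases hl.dvd_mul.1 this with h1 | h1
        · rcases hl.dvd_mul.1 h1 with h1 | h1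
          · exact hl3 ((Nat.prime_dvd_prime_iff_eq hl Nat.prime_three).1 (hl.dvd_of_dvd_pow h1))
          · exact hl.ne_one (gcd_sub_pp h1 hd)
        · exact hl.ne_one (gcd_add_pp h1 hd)
      · exact absurd (gcd_sub_pp (hno _ _ S.torH h hr2) hd) hl.ne_one
    · by_cases hr2 : r = 2
      · exfalso
        subst hr2
        obtain ⟨c, rfl⟩ := S.inv_conj z (by rw [← sq, ← hzo, pow_orderOf_eq_one])
          (fun e => by rw [e, orderOf_one] at hzo; omega)
        have hxz : x ∈ Cn (c * S.a * c⁻¹) := mem_Cn.2 hzx.symm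
        rw [Cn_conj, mem_conj_map] at hxz
        have := orderOf_dvd_natCard (⟨_, hxz⟩ : Cn S.a)
        rw [Subgroup.orderOf_mk, order_conj_inv, ho, S.card_Ca] at this
        rcases hl.dvd_mul.1 this with h1 | h1
        · rcases hl.dvd_mul.1 h1 with h1 | h1
          · exact hl3 ((Nat.prime_dvd_prime_iff_eq hl Nat.prime_three).1 (hl.dvd_of_dvd_pow h1))
          · exact hl.ne_one (gcd_sub_pp h1 hd)
        · exact hl.ne_one (gcd_add_pp h1 hd)
      · exact absurd (gcd_add_pp (hno _ _ S.torS h hr2) hd) hl.ne_one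
    · exact h
  have htd : Nat.card (Cn x) ∣ pp m := by
    have hco : Nat.Coprime (Nat.card (Cn x)) (qq m ^ 3 * (qq m - 1) * (qq m + 1)) := by
      refine Nat.coprime_of_dvd fun r hr h1 h2 => ?_
      have h := hprimes r hr h1
      rcases hr.dvd_mul.1 h2 with h2 | h2
      · rcases hr.dvd_mul.1 h2 with h2 | h2
        · exact not_three_pp ((Nat.prime_dvd_prime_iff_eq hr Nat.prime_three).1
            (hr.dvd_of_dvd_pow (hr.dvd_of_dvd_pow h2)) ▸ h)
        · exact hr.ne_one (gcd_sub_pp h2 h)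
      · exact hr.ne_one (gcd_add_pp h2 h)
    refine hco.dvd_of_dvd_mul_left ?_
    have := (Cn x).card_subgroup_dvd_card
    rwa [S.card, gOrd_eq, ← mul_assoc] at this
  have hlt : l ∣ Nat.card (Cn x) := by
    have := orderOf_dvd_natCard (⟨x, hxC⟩ : Cn x)
    rwa [Subgroup.orderOf_mk, ho] at this
  have hodd : Odd (Nat.card (Cn x)) := odd_pp.of_dvd_nat htd
  have hT : Tor S (Cn x) (Nat.card (Cn x)) := by
    refine ⟨hcomm, rfl, fun h => not_three_pp (h.trans htd), ?_⟩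
    have hcw : ∀ w : G, (∀ r : ℕ, orderOf w = r → r.Prime → r ∣ pp m) → (orderOf w).Prime →
        ∀ u ∈ Cn w, ∀ v ∈ Cn w, u * v = v * u := fun w h hp u hu v hv =>
      congrArg Subtype.val ((S.six _ hp (h _ rfl hp) w rfl).1.is_comm.comm ⟨u, hu⟩ ⟨v, hv⟩)
    intro z hz hz2
    refine le_antisymm (fun u hu => ?_) fun u hu => mem_Cn.2
      (congrArg Subtype.val (hcomm.is_comm.comm ⟨u, hu⟩ ⟨z, hz⟩))
    have hzd : orderOf z ∣ Nat.card (Cn x) := by
      have := orderOf_dvd_natCard (⟨z, hz⟩ : Cn x)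
      rwa [Subgroup.orderOf_mk] at this
    obtain ⟨r, hr, hrd⟩ := Nat.exists_prime_and_dvd (n := orderOf z)
      (fun e => hz2 (by rw [orderOf_eq_one_iff.1 e, one_mul]))
    have hwo := orderOf_pow_orderOf_div (orderOf_pos z).ne' hrd
    set w := z ^ (orderOf z / r) with hw
    have hxw : x ∈ Cn w := mem_Cn.2 ((show Commute x z from (mem_Cn.1 hz).symm).pow_right _).eq
    have huw : u ∈ Cn w := mem_Cn.2 ((show Commute u z from mem_Cn.1 hu).pow_right _).eq
    refine mem_Cn.2 (hcw w (fun r' e hr' => ?_) (hwo ▸ hr) u huw x hxw)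
    rw [← e, hwo]
    exact hrd.trans (hzd.trans htd)
  refine ⟨_, (Cn x).relIndex (Subgroup.normalizer ((Subgroup.zpowers x : Subgroup G) : Set G)), hT,
    hodd, hlt, htd, ?_, hrel, ?_⟩
  · have := Nat.le_of_dvd Nat.card_pos hlt
    have := hl.two_le
    have : l ≠ 4 := fun e => absurd (e ▸ hl) (by norm_num)
    omega
  · have hne : Subgroup.zpowers x ≠ ⊥ := by
      rw [Subgroup.zpowers_ne_bot]
      exact fun e => hl.ne_one (by rw [← ho, e, orderOf_one])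
    have hle : Subgroup.zpowers x ≤ hT.odd :=
      Subgroup.zpowers_le.2 ⟨hxC, ho ▸ hl.odd_of_ne_two hl2⟩
    rw [(hT.norm_sub hle hne).1]
    have h1 : Cn x ≤ Subgroup.normalizer (Cn x : Set G) := Subgroup.le_normalizer
    have := Subgroup.relIndex_mul_relIndex ⊥ (Cn x) (Subgroup.normalizer (Cn x : Set G)) bot_le h1
    rw [Subgroup.relIndex_bot_left, Subgroup.relIndex_bot_left] at this
    rw [← this, mul_comm]

lemma classify {g : G} (h2 : 2 < orderOf g) (h3 : ¬ 3 ∣ orderOf g) :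
    orderOf g ∣ qq m - 1 ∨ orderOf g ∣ qq m + 1 ∨ orderOf g ∣ pp m := by
  haveI := S.finite
  obtain ⟨p, hp, hp2, -, hpd, h | h | h⟩ := S.prime_of_order h2 h3
  · exact Or.inl (S.torH.ci_dvd (S.torH.cover hp hp2 h hpd))
  · exact Or.inr (Or.inl (S.torS.ci_dvd (S.torS.cover hp hp2 h hpd)))
  · refine Or.inr (Or.inr ?_)
    obtain ⟨t, w, hT, -, hlt, htd, -⟩ := S.torX hp h (orderOf_pow_orderOf_div (orderOf_pos g).ne' hpd)
    exact (hT.order_dvd (mem_Cn.2 ((Commute.refl g).pow_right _).eq)).trans htd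

lemma partition :
    gOrd m = 1 + Nat.card {g : G // orderOf g = 2} + Nat.card {g : G // orderOf g = 3} +
      Nat.card {g : G // orderOf g = 6} + Nat.card {g : G // orderOf g = 9} +
      Nat.card {g : G // 2 < orderOf g ∧ orderOf g ∣ qq m - 1} +
      Nat.card {g : G // 2 < orderOf g ∧ orderOf g ∣ qq m + 1} +
      Nat.card {g : G // 2 < orderOf g ∧ orderOf g ∣ pp m} := by
  classical
  haveI := S.finite
  haveI := Fintype.ofFinite G
  have hsum : ∀ g : G, (if g = 1 then 1 else 0) + (if orderOf g = 2 then 1 else 0) +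
      (if orderOf g = 3 then 1 else 0) + (if orderOf g = 6 then 1 else 0) +
      (if orderOf g = 9 then 1 else 0) + (if 2 < orderOf g ∧ orderOf g ∣ qq m - 1 then 1 else 0) +
      (if 2 < orderOf g ∧ orderOf g ∣ qq m + 1 then 1 else 0) +
      (if 2 < orderOf g ∧ orderOf g ∣ pp m then 1 else 0) = 1 := by
    intro g
    rcases eq_or_ne g 1 with rfl | hg
    · simp
    have h1 : orderOf g ≠ 1 := fun e => hg (orderOf_eq_one_iff.1 e)
    have hpos := orderOf_pos g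
    by_cases h2 : orderOf g = 2
    · simp [hg, h2]
    by_cases h3 : 3 ∣ orderOf g
    · have hn : ¬ orderOf g ∣ qq m - 1 ∧ ¬ orderOf g ∣ qq m + 1 ∧ ¬ orderOf g ∣ pp m :=
        ⟨fun h => not_three_sub S.hm (h3.trans h), fun h => not_three_add (h3.trans h),
          fun h => not_three_pp (h3.trans h)⟩
      rcases S.three_dvd h3 with e | e | e <;>
        (rw [e] at hn; simp [hg, e, hn.1, hn.2.1, hn.2.2])
    · have hlt : 2 < orderOf g := by omega
      have hne : orderOf g ≠ 3 ∧ orderOf g ≠ 6 ∧ orderOf g ≠ 9 :=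
        ⟨fun e => h3 (e ▸ dvd_rfl), fun e => h3 (e ▸ by norm_num), fun e => h3 (e ▸ by norm_num)⟩
      have x12 : orderOf g ∣ qq m - 1 → ¬ orderOf g ∣ qq m + 1 := fun a b => by
        have := Nat.le_of_dvd two_pos (gcd_sub_add a b); omega
      have x13 : orderOf g ∣ qq m - 1 → ¬ orderOf g ∣ pp m := fun a b => h1 (gcd_sub_pp a b)
      have x23 : orderOf g ∣ qq m + 1 → ¬ orderOf g ∣ pp m := fun a b => h1 (gcd_add_pp a b)
      rcases S.classify hlt h3 with e | e | e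
      · simp [hg, h2, hne, hlt, e, x12 e, x13 e]
      · simp [hg, h2, hne, hlt, e, x23 e, show ¬ orderOf g ∣ qq m - 1 from fun a => x12 a e]
      · simp [hg, h2, hne, hlt, e, show ¬ orderOf g ∣ qq m - 1 from fun a => x13 a e,
          show ¬ orderOf g ∣ qq m + 1 from fun a => x23 a e]
  have hcard := S.card
  rw [Nat.card_eq_fintype_card, ← Finset.card_univ, Finset.card_eq_sum_ones,
    ← Finset.sum_congr rfl fun g _ => hsum g] at hcard
  rw [← hcard]
  simp only [Finset.sum_add_distrib, Nat.card_eq_fintype_card, Fintype.card_subtype,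
    Finset.card_filter]
  rw [show ∑ g : G, (if g = 1 then 1 else 0) = 1 by simp]

lemma rest_eq :
    ∃ w : ℕ, (w = 2 ∨ w = 6) ∧ Nat.card (Subgroup.normalizer (S.T0 : Set G)) = w * (qq m + 1) ∧
      (w = 2 → 30 * (Nat.card {g : G // 2 < orderOf g ∧ orderOf g ∣ pp m} : ℤ) < 4 * gOrd m) ∧
      (w = 6 → Subgroup.normalizer (S.V0 : Set G) = Subgroup.normalizer (S.T0 : Set G) ∧
        6 * (Nat.card {g : G // 2 < orderOf g ∧ orderOf g ∣ pp m} : ℤ) * pp m =
          2 * gOrd m * (pp m - qq m - 1)) := by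
  obtain ⟨hh, hho⟩ := half (m := m)
  obtain ⟨h4, hodd⟩ := quarter (m := m)
  have hq := q_ge S.hm
  have hH := S.torH.count_all (e := 1) (c := (qq m - 1) / 2) (by simpa using hh.symm) hho
  have hS := S.torS.count_all (e := 2) (c := (qq m + 1) / 4) (by norm_num [h4]) hodd
  rw [Nat.card_congr (Equiv.subtypeEquivRight fun g => S.torH.ci_iff), S.hNorm, S.card] at hH
  rw [Nat.card_congr (Equiv.subtypeEquivRight fun g => S.torS.ci_iff), S.card] at hS
  have hp := S.partition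
  rw [S.card_two, S.card_three, S.card_six, S.card_nine] at hp
  have hN : (gOrd m : ℤ) = (qq m : ℤ) ^ 3 * ((qq m : ℤ) - 1) * (((qq m : ℤ) + 1) * pp m) := by
    rw [gOrd_eq]; push_cast [show 1 ≤ qq m by omega]; ring
  have hc : ((qq m : ℤ)) ^ 3 + 1 = ((qq m : ℤ) + 1) * pp m := by exact_mod_cast cube_eq
  have hP : ((pp m : ℕ) : ℤ) + qq m = qq m * qq m + 1 := by exact_mod_cast pp_eq
  have hsq : 1 ≤ qq m ^ 2 := Nat.one_le_pow _ _ (by omega)
  rw [show qq m - 1 - 2 ^ 1 = qq m - 3 by omega] at hH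
  rw [show qq m + 1 - 2 ^ 2 = qq m - 3 by omega] at hS
  replace hH := congrArg (Nat.cast : ℕ → ℤ) hH
  replace hp := congrArg (Nat.cast : ℕ → ℤ) hp
  replace hS := congrArg (Nat.cast : ℕ → ℤ) hS
  push_cast [Nat.cast_sub, hsq, show 1 ≤ qq m by omega, show 3 ≤ qq m by omega] at hH hp
  push_cast [Nat.cast_sub, show 3 ≤ qq m by omega] at hS
  set cH : ℤ := ↑(Nat.card {g : G // 2 < orderOf g ∧ orderOf g ∣ qq m - 1}) with hcH
  set cS : ℤ := ↑(Nat.card {g : G // 2 < orderOf g ∧ orderOf g ∣ qq m + 1}) with hcS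
  set cR : ℤ := ↑(Nat.card {g : G // 2 < orderOf g ∧ orderOf g ∣ pp m}) with hcR
  set q : ℤ := ↑(qq m) with hqq
  set P : ℤ := ↑(pp m) with hPP
  have hq' : (27 : ℤ) ≤ q := by rw [hqq]; exact_mod_cast hq
  rw [hN] at hH hS hp
  have eH : 2 * cH = (q - 3) * (q ^ 3 * ((q + 1) * P)) := by
    refine mul_right_cancel₀ (show q - 1 ≠ 0 by omega) ?_
    linear_combination hH
  rcases S.norm_T0_cases with hn | ⟨hn, hV⟩
  · refine ⟨2, Or.inl rfl, hn, fun _ => ?_, fun h => absurd h (by norm_num)⟩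
    rw [hn] at hS
    push_cast [← hqq] at hS
    have eS : 2 * cS = (q - 3) * (q ^ 3 * (q - 1) * P) := by
      refine mul_right_cancel₀ (show q + 1 ≠ 0 by omega) ?_
      linear_combination hS
    rw [hN]
    have e6 : 6 * cR = 2 * q ^ 3 * (q ^ 2 - 1) * (P - q - 1) - 2 * (q - 3) * q ^ 3 * (q - 1) * P := by
      rw [hc] at hp
      linear_combination (-6 : ℤ) * hp - 3 * eH - 3 * eS + (6 + 6 * q - 4 * q ^ 3 - 2 * q ^ 4) * hP
    have hP' : P = q * q + 1 - q := by linarith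
    have key : 10 * (q + 1) * (P - q - 1) - 10 * (q - 3) * P < 4 * (q + 1) * P := by
      rw [hP']; nlinarith
    have hpos : 0 < q ^ 3 * (q - 1) := by
      have : (0 : ℤ) < q - 1 := by omega
      positivity
    nlinarith [mul_lt_mul_of_pos_left key hpos]
  · have e6 : 6 * cR * P = 2 * (q ^ 3 * (q - 1) * ((q + 1) * P)) * (P - q - 1) := by
      rw [hn] at hS
      push_cast [← hqq] at hS
      have eS : 6 * cS = (q - 3) * (q ^ 3 * (q - 1) * P) := by
        refine mul_right_cancel₀ (show q + 1 ≠ 0 by omega) ?_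
        linear_combination hS
      rw [hc] at hp
      have e : 6 * cR = 2 * q ^ 3 * (q ^ 2 - 1) * (P - q - 1) := by
        linear_combination (-6 : ℤ) * hp - 3 * eH - eS + (6 + 6 * q - 4 * q ^ 3 - 2 * q ^ 4) * hP
      rw [e]; ring
    exact ⟨6, Or.inr rfl, hn, fun h => absurd h (by norm_num), fun _ => ⟨hV, by rw [hN]; exact e6⟩⟩

lemma class_bound {T : Subgroup G} {t w : ℕ} (hT : Tor S T t) (ho : Odd t) (ht : 4 < t) (hw : w ∣ 6)
    (hn : Nat.card (Subgroup.normalizer (T : Set G)) = w * t) :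
    (w : ℤ) * Nat.card {g : G // CI T g ∧ 2 < orderOf g} * t = ((t : ℤ) - 1) * gOrd m ∧
    4 * (gOrd m : ℤ) ≤ 30 * Nat.card {g : G // CI T g ∧ 2 < orderOf g} ∧
    (w ≠ 6 → 8 * (gOrd m : ℤ) ≤ 30 * Nat.card {g : G // CI T g ∧ 2 < orderOf g}) := by
  have h := hT.count_all (e := 0) (c := t) (by ring) ho
  rw [hn, S.card, pow_zero] at h
  replace h := congrArg (Nat.cast : ℕ → ℤ) h
  push_cast [Nat.cast_sub (show 1 ≤ t by omega)] at h
  set c : ℤ := ↑(Nat.card {g : G // CI T g ∧ 2 < orderOf g})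
  have hc : 0 ≤ c := Int.natCast_nonneg _
  have ht' : (5 : ℤ) ≤ t := by exact_mod_cast ht
  have hN : (0 : ℤ) ≤ gOrd m := Int.natCast_nonneg _
  have e : (w : ℤ) * c * t = ((t : ℤ) - 1) * gOrd m := by linear_combination h
  refine ⟨e, ?_, fun hw6 => ?_⟩
  · have : (w : ℤ) ≤ 6 := by exact_mod_cast Nat.le_of_dvd (by norm_num) hw
    nlinarith [mul_le_mul_of_nonneg_right this (mul_nonneg hc (show (0 : ℤ) ≤ t by linarith))]
  · have : (w : ℤ) ≤ 3 := by
      have := Nat.le_of_dvd (by norm_num) hw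
      have : w ≠ 4 := fun e => by rw [e] at hw; norm_num at hw
      have : w ≠ 5 := fun e => by rw [e] at hw; norm_num at hw
      omega
    nlinarith [mul_le_mul_of_nonneg_right this (mul_nonneg hc (show (0 : ℤ) ≤ t by linarith))]

/-- the two classes of tori -/
theorem main : Nat.card (Subgroup.normalizer (S.T0 : Set G)) = 6 * (qq m + 1) ∧
    Subgroup.normalizer (S.V0 : Set G) = Subgroup.normalizer (S.T0 : Set G) ∧
    ∃ T₁ T₂ : Subgroup G, Tor S T₁ (qq m - rr m + 1) ∧ Tor S T₂ (qq m + rr m + 1) ∧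
      Nat.card (Subgroup.normalizer (T₁ : Set G)) = 6 * (qq m - rr m + 1) ∧
      Nat.card (Subgroup.normalizer (T₂ : Set G)) = 6 * (qq m + rr m + 1) ∧
      ∀ g : G, 2 < orderOf g → orderOf g ∣ pp m → CI T₁ g ∨ CI T₂ g := by
  haveI := S.finite
  have hq := q_ge S.hm
  have hpp := pp_gt S.hm
  let R := fun g : G => 2 < orderOf g ∧ orderOf g ∣ pp m
  obtain ⟨w0, hw0, hn0, heq, hV⟩ := S.rest_eq
  have step : ∀ g : G, R g → ∃ (T : Subgroup G) (t w : ℕ), Tor S T t ∧ Odd t ∧ 4 < t ∧ t ∣ pp m ∧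
      w ∣ 6 ∧ Nat.card (Subgroup.normalizer (T : Set G)) = w * t ∧ g ∈ T := by
    intro g hg
    obtain ⟨p, hp, hpd⟩ := Nat.exists_prime_and_dvd (n := orderOf g) (by have := hg.1; omega)
    obtain ⟨t, w, hT, ho, -, htd, ht4, hw, hn⟩ := S.torX hp (hpd.trans hg.2)
      (orderOf_pow_orderOf_div (orderOf_pos g).ne' hpd)
    exact ⟨_, t, w, hT, ho, ht4, htd, hw, hn, mem_Cn.2 ((Commute.refl g).pow_right _).eq⟩
  have hsub : ∀ (T : Subgroup G) (t : ℕ), Tor S T t → t ∣ pp m →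
      ∀ g, CI T g ∧ 2 < orderOf g → R g := fun T t hT ht g h => ⟨h.2, (hT.ci_dvd h.1).trans ht⟩
  have self : ∀ {T : Subgroup G} {g : G}, g ∈ T → CI T g := fun h => ⟨1, by simpa using h⟩
  -- a first torus
  obtain ⟨l, hl, hld⟩ := Nat.exists_prime_and_dvd (n := pp m) (by omega)
  have hlo : ∀ l : ℕ, l.Prime → l ∣ pp m → ∃ x : G, orderOf x = l ∧ R x := by
    intro l hl hld
    haveI : Fact l.Prime := ⟨hl⟩
    obtain ⟨x, hx⟩ := exists_prime_orderOf_dvd_card' (G := G) l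
      (S.card ▸ gOrd_eq (m := m) ▸ (hld.mul_left _).mul_left _)
    have : l ≠ 2 := fun e => Nat.not_even_iff_odd.2 odd_pp (even_iff_two_dvd.2 (e ▸ hld))
    exact ⟨x, hx, by rw [hx]; have := hl.two_le; omega, hx ▸ hld⟩
  obtain ⟨x₁, -, hx₁⟩ := hlo l hl hld
  obtain ⟨T₁, t₁, w₁, hT₁, ho₁, h4₁, hd₁, hw₁, hn₁, hm₁⟩ := step x₁ hx₁
  obtain ⟨e₁, b₁, b₁'⟩ := S.class_bound hT₁ ho₁ h4₁ hw₁ hn₁
  set cR : ℤ := ↑(Nat.card {g : G // 2 < orderOf g ∧ orderOf g ∣ pp m}) with hcR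
  set c₁ : ℤ := ↑(Nat.card {g : G // CI T₁ g ∧ 2 < orderOf g}) with hc₁
  have hle₁ : c₁ ≤ cR := by
    rw [hc₁, hcR]
    exact_mod_cast Nat.card_le_card_of_injective
      (Subtype.map id fun g h => hsub T₁ t₁ hT₁ hd₁ g h)
      (Subtype.map_injective _ Function.injective_id)
  have hw6 : w0 = 6 := by
    rcases hw0 with h | h
    · have := heq h
      linarith
    · exact h
  obtain ⟨hVN, heqn⟩ := hV hw6
  subst hw6
  refine ⟨hn0, hVN, ?_⟩
  have hN0 : (0 : ℤ) < gOrd m := by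
    have := Nat.card_pos (α := G)
    rw [S.card] at this
    exact_mod_cast this
  have hqZ : (27 : ℤ) ≤ qq m := by exact_mod_cast hq
  have hPZ : (25 : ℤ) * qq m ≤ pp m := by exact_mod_cast hpp
  have hlt : 30 * cR < 10 * gOrd m := by nlinarith
  -- a second torus
  obtain ⟨x₂, hx₂, hn₂'⟩ : ∃ x₂, R x₂ ∧ ¬ CI T₁ x₂ := by
    by_contra hno
    push Not at hno
    have hPt : pp m ∣ t₁ := by
      refine (Nat.dvd_iff_prime_pow_dvd_dvd _ _).2 fun r j hr hrj => ?_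
      rcases Nat.eq_zero_or_pos j with rfl | hj
      · simp
      have hrd : r ∣ pp m := (dvd_pow_self r hj.ne').trans hrj
      obtain ⟨x, hx, hxR⟩ := hlo r hr hrd
      refine hT₁.full_part hr (fun e => Nat.not_even_iff_odd.2 odd_pp (even_iff_two_dvd.2 (e ▸ hrd)))
        (hx ▸ hT₁.ci_dvd (hno x hxR)) ?_
      rw [gOrd_eq]
      exact (hrj.mul_left _).mul_left _
    obtain rfl := Nat.dvd_antisymm hd₁ hPt
    have ec : c₁ = cR := by
      rw [hc₁, hcR]
      exact_mod_cast Nat.card_congr (Equiv.subtypeEquivRight fun g =>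
        ⟨fun h => hsub T₁ _ hT₁ dvd_rfl g h, fun h => ⟨hno g h, h.1⟩⟩)
    rw [ec] at e₁
    have key : 6 * ((pp m : ℤ) - 1) = 2 * w₁ * ((pp m : ℤ) - qq m - 1) := by
      refine mul_left_cancel₀ hN0.ne' ?_
      linear_combination (w₁ : ℤ) * heqn - 6 * e₁
    have := Nat.le_of_dvd (by norm_num) hw₁
    interval_cases w₁ <;> first | (norm_num at hw₁; done) | (push_cast at key; linarith)
  obtain ⟨T₂, t₂, w₂, hT₂, ho₂, h4₂, hd₂, hw₂, hn₂, hm₂⟩ := step x₂ hx₂
  obtain ⟨e₂, b₂, b₂'⟩ := S.class_bound hT₂ ho₂ h4₂ hw₂ hn₂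
  set c₂ : ℤ := ↑(Nat.card {g : G // CI T₂ g ∧ 2 < orderOf g}) with hc₂
  have hdis : ∀ g, CI T₁ g → CI T₂ g → 2 < orderOf g → False :=
    fun g h h' h2 => hn₂' (hT₁.meet hT₂ h h' h2 x₂ hm₂)
  have hcov : ∀ g, R g → CI T₁ g ∨ CI T₂ g := by
    intro x₃ hx₃
    by_contra hno
    rw [not_or] at hno
    obtain ⟨T₃, t₃, w₃, hT₃, ho₃, h4₃, hd₃, hw₃, hn₃, hm₃⟩ := step x₃ hx₃
    obtain ⟨-, b₃, -⟩ := S.class_bound hT₃ ho₃ h4₃ hw₃ hn₃
    set c₃ : ℤ := ↑(Nat.card {g : G // CI T₃ g ∧ 2 < orderOf g}) with hc₃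
    have hd13 : ∀ g, CI T₁ g → CI T₃ g → 2 < orderOf g → False :=
      fun g h h' h2 => hno.1 (hT₁.meet hT₃ h h' h2 x₃ hm₃)
    have hd23 : ∀ g, CI T₂ g → CI T₃ g → 2 < orderOf g → False :=
      fun g h h' h2 => hno.2 (hT₂.meet hT₃ h h' h2 x₃ hm₃)
    obtain ⟨k1, k2⟩ := card_add_le (p := fun g => CI T₁ g ∧ 2 < orderOf g)
      (q := fun g => CI T₂ g ∧ 2 < orderOf g) (r := R) (hsub T₁ t₁ hT₁ hd₁) (hsub T₂ t₂ hT₂ hd₂)
      (fun g h h' => hdis g h.1 h'.1 h.2)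
    obtain ⟨k3, k4⟩ := card_add_le
      (p := fun g => (CI T₁ g ∧ 2 < orderOf g) ∨ (CI T₂ g ∧ 2 < orderOf g))
      (q := fun g => CI T₃ g ∧ 2 < orderOf g) (r := R)
      (fun g h => h.elim (hsub T₁ t₁ hT₁ hd₁ g) (hsub T₂ t₂ hT₂ hd₂ g)) (hsub T₃ t₃ hT₃ hd₃)
      (fun g h h' => h.elim (fun a => hd13 g a.1 h'.1 a.2) fun a => hd23 g a.1 h'.1 a.2)
    have : c₁ + c₂ + c₃ ≤ cR := by
      rw [hc₁, hc₂, hc₃, hcR]
      exact_mod_cast (by rw [k1, k3]; exact k4 :
        Nat.card {g : G // CI T₁ g ∧ 2 < orderOf g} + Nat.card {g : G // CI T₂ g ∧ 2 < orderOf g} +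
          Nat.card {g : G // CI T₃ g ∧ 2 < orderOf g} ≤ Nat.card {g : G // R g})
    linarith
  have hsum : cR = c₁ + c₂ := by
    rw [hc₁, hc₂, hcR, ← Nat.cast_add, Nat.cast_inj]
    rw [(card_add_le (p := fun g => CI T₁ g ∧ 2 < orderOf g) (q := fun g => CI T₂ g ∧ 2 < orderOf g)
      (r := R) (hsub T₁ t₁ hT₁ hd₁) (hsub T₂ t₂ hT₂ hd₂) (fun g h h' => hdis g h.1 h'.1 h.2)).1]
    exact Nat.card_congr (Equiv.subtypeEquivRight fun g =>
      ⟨fun h => (hcov g h).imp (fun a => ⟨a, h.1⟩) (fun a => ⟨a, h.1⟩),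
        fun h => h.elim (hsub T₁ t₁ hT₁ hd₁ g) (hsub T₂ t₂ hT₂ hd₂ g)⟩)
  obtain rfl : w₁ = 6 := by by_contra h; have := b₁' h; linarith
  obtain rfl : w₂ = 6 := by by_contra h; have := b₂' h; linarith
  have hcop : Nat.Coprime t₁ t₂ := by
    refine Nat.coprime_of_dvd fun r hr h1 h2 => ?_
    haveI : Fact r.Prime := ⟨hr⟩
    obtain ⟨⟨y, hy⟩, hyo⟩ := exists_prime_orderOf_dvd_card' (G := T₂) r (hT₂.card ▸ h2)
    rw [Subgroup.orderOf_mk] at hyo
    have hr2 : r ≠ 2 := fun e => Nat.not_even_iff_odd.2 ho₁ (even_iff_two_dvd.2 (e ▸ h1))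
    exact hdis y (hT₁.cover hr hr2 h1 (hyo ▸ dvd_rfl)) (self hy)
      (by rw [hyo]; have := hr.two_le; omega)
  have hprod : t₁ * t₂ = pp m := by
    refine Nat.dvd_antisymm (hcop.mul_dvd_of_dvd_of_dvd hd₁ hd₂) ?_
    refine (Nat.dvd_iff_prime_pow_dvd_dvd _ _).2 fun r j hr hrj => ?_
    rcases Nat.eq_zero_or_pos j with rfl | hj
    · simp
    have hrd : r ∣ pp m := (dvd_pow_self r hj.ne').trans hrj
    obtain ⟨x, hx, hxR⟩ := hlo r hr hrd
    have hr2 : r ≠ 2 := fun e => Nat.not_even_iff_odd.2 odd_pp (even_iff_two_dvd.2 (e ▸ hrd))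
    have hj' : r ^ j ∣ gOrd m := by rw [gOrd_eq]; exact (hrj.mul_left _).mul_left _
    rcases hcov x hxR with h | h
    · exact (hT₁.full_part hr hr2 (hx ▸ hT₁.ci_dvd h) hj').mul_right _
    · exact (hT₂.full_part hr hr2 (hx ▸ hT₂.ci_dvd h) hj').mul_left _
  have hPp : (t₁ : ℤ) * t₂ = pp m := by exact_mod_cast hprod
  have hts : (t₁ : ℤ) + t₂ = 2 * qq m + 2 := by
    refine mul_left_cancel₀ hN0.ne' ?_
    push_cast at e₁ e₂
    rw [hsum, ← hPp] at heqn
    linear_combination (t₂ : ℤ) * e₁ + (t₁ : ℤ) * e₂ - heqn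
  have hP : ((pp m : ℕ) : ℤ) + qq m = qq m * qq m + 1 := by exact_mod_cast pp_eq
  have hr2 : ((rr m : ℕ) : ℤ) ^ 2 = 3 * qq m := by rw [sq]; exact_mod_cast rr_sq
  have hr := r_lt S.hm
  have hsqd : ((t₁ : ℤ) - qq m - 1) ^ 2 = (rr m : ℤ) ^ 2 := by
    linear_combination (t₁ : ℤ) * hts - hPp - hP - hr2
  rcases sq_eq_sq_iff_eq_or_eq_neg.1 hsqd with e | e
  · have a1 : t₁ = qq m + rr m + 1 := by omega
    have a2 : t₂ = qq m - rr m + 1 := by omega
    subst a1 a2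
    exact ⟨T₂, T₁, hT₂, hT₁, hn₂, hn₁, fun g h h' => (hcov g ⟨h, h'⟩).symm⟩
  · have a1 : t₁ = qq m - rr m + 1 := by omega
    have a2 : t₂ = qq m + rr m + 1 := by omega
    subst a1 a2
    exact ⟨T₁, T₂, hT₁, hT₂, hn₁, hn₂, fun g h h' => hcov g ⟨h, h'⟩⟩

end Sys

end CfsgLib.Chev.Ree
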