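/-
Consequences: cyclic Hall subgroups, element orders and their numbers.
-/
import Cfsg.Agent.Lib.Chev.Ree.Phi

set_option autoImplicit false

namespace CfsgLib.Chev.Ree

variable {G : Type*} [Group G] {m : ℕ}

lemma exists_order_dvd [Finite G] {g : G} {d : ℕ} (h : d ∣ orderOf g) : ∃ x : G, orderOf x = d :=
  ⟨_, orderOf_pow_orderOf_div (orderOf_pos g).ne' h⟩

namespace Tor

variable {S : Sys G m} {T : Subgroup G} {k : ℕ} (hT : Tor S T k)
include hT

lemma hall {e c n : ℕ} (hk : k = 2 ^ e * c) (hc : Odd c) (hc1 : 1 < c)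
    (hn : Nat.card (Subgroup.normalizer (T : Set G)) = n) :
    ∃ A : Subgroup G, IsCyclic A ∧ Nat.card A = c ∧
      Nat.card (Subgroup.normalizer (A : Set G)) = n ∧
      ∀ A₀ : Subgroup G, A₀ ≤ A → A₀ ≠ ⊥ →
        Subgroup.normalizer (A₀ : Set G) = Subgroup.normalizer (A : Set G) := by
  have hcard := (hT.split hk hc).1
  have hne : hT.odd ≠ ⊥ := fun e => by
    rw [e, Subgroup.card_bot] at hcard; omega
  exact ⟨hT.odd, hT.odd_cyclic, hcard, by rw [(hT.norm_sub le_rfl hne).1, hn],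
    fun A₀ hA hne' => (hT.norm_sub hA hne').2⟩

lemma exists_gen {e c : ℕ} (hk : k = 2 ^ e * c) (hc : Odd c) : ∃ g ∈ T, orderOf g = c := by
  haveI := hT.odd_cyclic
  obtain ⟨g, hg⟩ := IsCyclic.exists_ofOrder_eq_natCard (α := hT.odd)
  refine ⟨g, g.2.1, ?_⟩
  rw [Subgroup.orderOf_coe, hg, (hT.split hk hc).1]

end Tor

namespace Sys

variable (S : Sys G m)
include S

lemma split_H : qq m - 1 = 2 ^ 1 * ((qq m - 1) / 2) ∧ Odd ((qq m - 1) / 2) ∧ 1 < (qq m - 1) / 2 := by
  have := half (m := m)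
  have := q_ge S.hm
  refine ⟨by omega, half.2, by omega⟩

lemma split_S : qq m + 1 = 2 ^ 2 * ((qq m + 1) / 4) ∧ Odd ((qq m + 1) / 4) ∧ 1 < (qq m + 1) / 4 := by
  have := quarter (m := m)
  have := q_ge S.hm
  refine ⟨by omega, quarter.2, by omega⟩

lemma split_T : (Odd (qq m - rr m + 1) ∧ 1 < qq m - rr m + 1) ∧
    (Odd (qq m + rr m + 1) ∧ 1 < qq m + rr m + 1) := by
  have h := odd_pp (m := m)
  rw [pp_factor S.hm, Nat.odd_mul] at h
  have := r_lt S.hm
  exact ⟨⟨h.1, by omega⟩, h.2, by omega⟩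

theorem hallSubgroups : ∀ kn ∈ ({((qq m - 1) / 2, 2 * (qq m - 1)), ((qq m + 1) / 4, 6 * (qq m + 1)),
      (qq m - rr m + 1, 6 * (qq m - rr m + 1)),
      (qq m + rr m + 1, 6 * (qq m + rr m + 1))} : Set (ℕ × ℕ)),
    ∃ A : Subgroup G, IsCyclic A ∧ Nat.card A = kn.1 ∧
      Nat.card (Subgroup.normalizer (A : Set G)) = kn.2 ∧
      ∀ A₀ : Subgroup G, A₀ ≤ A → A₀ ≠ ⊥ →
        Subgroup.normalizer (A₀ : Set G) = Subgroup.normalizer (A : Set G) := by
  obtain ⟨hn0, -, T₁, T₂, hT₁, hT₂, hn₁, hn₂, -⟩ := S.main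
  obtain ⟨a1, a2, a3⟩ := S.split_H
  obtain ⟨b1, b2, b3⟩ := S.split_S
  obtain ⟨⟨c2, c3⟩, d2, d3⟩ := S.split_T
  intro kn hkn
  simp only [Set.mem_insert_iff, Set.mem_singleton_iff] at hkn
  rcases hkn with rfl | rfl | rfl | rfl
  · exact S.torH.hall a1 a2 a3 S.hNorm
  · exact S.torS.hall b1 b2 b3 hn0
  · exact hT₁.hall (e := 0) (by rw [pow_zero, one_mul]) c2 c3 hn₁
  · exact hT₂.hall (e := 0) (by rw [pow_zero, one_mul]) d2 d3 hn₂

theorem elementOrders (d : ℕ) : (∃ g : G, orderOf g = d) ↔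
    (d ∣ 6 ∨ d ∣ 9 ∨ d ∣ qq m - 1 ∨ d ∣ (qq m + 1) / 2 ∨ d ∣ qq m - rr m + 1 ∨ d ∣ qq m + rr m + 1) := by
  haveI := S.finite
  obtain ⟨-, -, T₁, T₂, hT₁, hT₂, -, -, hcov⟩ := S.main
  obtain ⟨b1, b2, b3⟩ := S.split_S
  obtain ⟨⟨c2, c3⟩, d2, d3⟩ := S.split_T
  have hq := q_ge S.hm
  constructor
  · rintro ⟨g, rfl⟩
    by_cases h2 : orderOf g ≤ 2
    · left
      have := orderOf_pos g
      rcases (show orderOf g = 1 ∨ orderOf g = 2 by omega) with e | e <;> rw [e] <;> norm_num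
    by_cases h3 : 3 ∣ orderOf g
    · rcases S.three_dvd h3 with e | e | e <;> rw [e]
      · exact Or.inl (by norm_num)
      · exact Or.inl dvd_rfl
      · exact Or.inr (Or.inl dvd_rfl)
    rcases S.classify (by omega) h3 with e | e | e
    · exact Or.inr (Or.inr (Or.inl e))
    · refine Or.inr (Or.inr (Or.inr (Or.inl ?_)))
      rw [show (qq m + 1) / 2 = 2 * ((qq m + 1) / 4) by omega]
      rw [b1, show (2 : ℕ) ^ 2 * ((qq m + 1) / 4) = 2 * (2 * ((qq m + 1) / 4)) by ring] at e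
      rcases Nat.even_or_odd (orderOf g) with ⟨j, hj⟩ | ho
      · rw [hj, ← two_mul] at e ⊢
        have hj' : Odd j := by
          rw [Nat.odd_iff]
          by_contra hh
          exact S.not_four g (by rw [hj]; omega)
        refine mul_dvd_mul_left 2 ?_
        exact (Nat.coprime_two_right.2 hj').dvd_of_dvd_mul_left (Nat.dvd_of_mul_dvd_mul_left two_pos e)
      · exact (Nat.coprime_two_right.2 ho).dvd_of_dvd_mul_left e
    · rcases hcov g (by omega) e with h | h
      · exact Or.inr (Or.inr (Or.inr (Or.inr (Or.inl (hT₁.ci_dvd h)))))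
      · exact Or.inr (Or.inr (Or.inr (Or.inr (Or.inr (hT₂.ci_dvd h)))))
  · have pos : ∀ i : ℕ, 0 < Nat.card {g : G // orderOf g = i} → ∀ {d}, d ∣ i → ∃ x : G, orderOf x = d := by
      intro i hi d hd
      obtain ⟨⟨g, hg⟩⟩ := (Nat.card_pos_iff.1 hi).1
      exact exists_order_dvd (hg ▸ hd)
    have hpp := pp_gt S.hm
    have h1 : 0 < qq m ^ 2 - 1 := by
      have : 1 < qq m ^ 2 := Nat.one_lt_pow two_ne_zero (by omega)
      omega
    rintro (h | h | h | h | h | h)
    · exact pos 6 (by rw [S.card_six]; exact Nat.mul_pos (Nat.mul_pos (pow_pos (by omega) _) (by omega)) h1) h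
    · exact pos 9 (by rw [S.card_nine]; exact Nat.mul_pos (Nat.mul_pos (pow_pos (by omega) _) (by omega)) (by omega)) h
    · haveI := S.hcyc
      obtain ⟨g, hg⟩ := IsCyclic.exists_ofOrder_eq_natCard (α := S.H)
      exact exists_order_dvd (g := (g : G)) (by rwa [Subgroup.orderOf_coe, hg, S.cardH])
    · obtain ⟨g, hgT, hg⟩ := S.torS.exists_gen b1 b2
      refine exists_order_dvd (g := S.a * g) ?_
      rw [(show Commute S.a g from S.torS.mul_comm' S.a_mem_T0 hgT).orderOf_mul_eq_mul_orderOf_of_coprime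
        (by rw [S.orderOf_a, hg]; exact Nat.coprime_two_left.2 b2), S.orderOf_a, hg]
      rwa [show (qq m + 1) / 2 = 2 * ((qq m + 1) / 4) by omega] at h
    · obtain ⟨g, -, hg⟩ := hT₁.exists_gen (e := 0) (by rw [pow_zero, one_mul]) c2
      exact exists_order_dvd (hg ▸ h)
    · obtain ⟨g, -, hg⟩ := hT₂.exists_gen (e := 0) (by rw [pow_zero, one_mul]) d2
      exact exists_order_dvd (hg ▸ h)

lemma card_T0_double {i : ℕ} (hi : Odd i) (hd : i ∣ (qq m + 1) / 4) :
    Nat.card {x : S.T0 // orderOf x = 2 * i} = 3 * Nat.totient i := by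
  classical
  haveI := S.finite
  haveI := Fintype.ofFinite S.V0
  have hpos : 0 < i := hi.pos
  have hcop : Nat.Coprime 2 i := Nat.coprime_two_left.2 hi
  obtain ⟨j, hj⟩ := hi
  rw [← S.torS.card_order_odd (i := i) ⟨j, hj⟩ (by rw [S.card_odd_T0]; exact hd),
    show 3 = Nat.card {v : S.V0 // v ≠ 1} by
      rw [Nat.card_eq_fintype_card, Fintype.card_subtype_compl, Fintype.card_subtype_eq,
        ← Nat.card_eq_fintype_card, S.card_V0], ← Nat.card_prod]
  have cm : ∀ x y : S.T0, Commute x y := fun x y => Subtype.ext (S.torS.mul_comm' x.2 y.2)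
  exact Nat.card_congr
    { toFun := fun x => (⟨⟨((x.1 ^ i : S.T0) : G), (x.1 ^ i).2, by
        rw [← Subgroup.coe_mul, ← pow_add, ← Subgroup.coe_one, ← two_mul]
        exact congrArg Subtype.val (by
          have := pow_orderOf_eq_one x.1
          rwa [x.2] at this)⟩, fun e => by
          have e' : x.1 ^ i = 1 := Subtype.ext (congrArg (fun v : S.V0 => (v : G)) e)
          have := Nat.le_of_dvd hpos (x.2 ▸ orderOf_dvd_of_pow_eq_one e')
          omega⟩, ⟨x.1 ^ (i + 1), by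
          rw [orderOf_pow, x.2, hj]
          rw [show 2 * j + 1 + 1 = 2 * (j + 1) by ring, Nat.gcd_mul_left,
            Nat.mul_div_mul_left _ _ two_pos,
            show Nat.gcd (2 * j + 1) (j + 1) = 1 from by
              rw [show 2 * j + 1 = j + (j + 1) by ring, Nat.gcd_add_self_left,
                Nat.gcd_self_add_right, Nat.gcd_one_right],
            Nat.div_one]⟩)
      invFun := fun p => ⟨⟨(p.1.1 : G), p.1.1.2.1⟩ * p.2.1, by
        have hv : orderOf (⟨(p.1.1 : G), p.1.1.2.1⟩ : S.T0) = 2 := by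
          rw [Subgroup.orderOf_mk]
          exact orderOf_eq_prime (by rw [sq, p.1.1.2.2]) fun e => p.1.2 (Subtype.ext e)
        rw [(cm _ _).orderOf_mul_eq_mul_orderOf_of_coprime (by rw [hv, p.2.2]; exact hcop), hv, p.2.2]⟩
      left_inv := fun x => Subtype.ext (by
        show x.1 ^ i * x.1 ^ (i + 1) = x.1
        have := pow_orderOf_eq_one x.1
        rw [x.2] at this
        rw [← pow_add, show i + (i + 1) = 2 * i + 1 by ring, pow_succ, this, one_mul])
      right_inv := by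
        rintro ⟨⟨v, hv⟩, ⟨y, hy⟩⟩
        have hv2 : (⟨(v : G), v.2.1⟩ : S.T0) ^ 2 = 1 := Subtype.ext (by
          show (v : G) ^ 2 = 1
          rw [sq, v.2.2])
        have hyi : y ^ i = 1 := by rw [← hy, pow_orderOf_eq_one]
        have e1 : (⟨(v : G), v.2.1⟩ * y : S.T0) ^ i = ⟨(v : G), v.2.1⟩ := by
          rw [(cm _ _).mul_pow, hyi, mul_one, hj, pow_succ, pow_mul, hv2, one_pow, one_mul]
        have e2 : (⟨(v : G), v.2.1⟩ * y : S.T0) ^ (i + 1) = y := by
          rw [(cm _ _).mul_pow, pow_succ y, hyi, one_mul, hj,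
            show 2 * j + 1 + 1 = 2 * (j + 1) by ring, pow_mul, hv2, one_pow, one_mul]
        exact Prod.ext (Subtype.ext (Subtype.ext (congrArg (fun z : S.T0 => (z : G)) e1))) (Subtype.ext e2) }

theorem orderCounts :
    Nat.card {g : G // orderOf g = 2} = qq m ^ 2 * (qq m ^ 2 - qq m + 1) ∧
    Nat.card {g : G // orderOf g = 3} = (qq m ^ 2 - 1) * (qq m ^ 3 + 1) ∧
    Nat.card {g : G // orderOf g = 6} = qq m ^ 2 * (qq m - 1) * (qq m ^ 3 + 1) ∧
    Nat.card {g : G // orderOf g = 9} = qq m ^ 2 * (qq m - 1) * (qq m ^ 3 + 1) ∧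
    (∀ i : ℕ, 2 < i → i ∣ qq m - 1 →
      2 * Nat.card {g : G // orderOf g = i} = Nat.totient i * qq m ^ 3 * (qq m ^ 3 + 1)) ∧
    (∀ i : ℕ, 1 < i → i ∣ (qq m + 1) / 4 →
      6 * Nat.card {g : G // orderOf g = i} =
          Nat.totient i * qq m ^ 3 * (qq m - 1) * (qq m ^ 2 - qq m + 1) ∧
        2 * Nat.card {g : G // orderOf g = 2 * i} =
          Nat.totient i * qq m ^ 3 * (qq m - 1) * (qq m ^ 2 - qq m + 1)) ∧
    (∀ i : ℕ, 1 < i → i ∣ qq m - rr m + 1 →
      6 * Nat.card {g : G // orderOf g = i} =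
        Nat.totient i * qq m ^ 3 * (qq m ^ 2 - 1) * (qq m + rr m + 1)) ∧
    (∀ i : ℕ, 1 < i → i ∣ qq m + rr m + 1 →
      6 * Nat.card {g : G // orderOf g = i} =
        Nat.totient i * qq m ^ 3 * (qq m ^ 2 - 1) * (qq m - rr m + 1)) := by
  classical
  haveI := S.finite
  have hq := q_ge S.hm
  obtain ⟨hn0, -, T₁, T₂, hT₁, hT₂, hn₁, hn₂, -⟩ := S.main
  obtain ⟨b1, b2, b3⟩ := S.split_S
  obtain ⟨⟨c2, c3⟩, d2, d3⟩ := S.split_T
  have hsq : qq m ^ 2 - qq m + 1 = pp m := by rw [sq, pp]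
  have hsub : qq m ^ 2 - 1 = (qq m - 1) * (qq m + 1) := by
    rw [mul_comm, ← Nat.sq_sub_sq, one_pow]
  refine ⟨by rw [hsq]; exact S.card_two, S.card_three, ?_, S.card_nine, ?_, ?_, ?_, ?_⟩
  · rw [S.card_six, cube_eq, hsub]; ring
  · intro i hi hd
    have h := S.torH.count_order hi hd
    haveI := S.hcyc
    haveI := Fintype.ofFinite S.H
    have e : Nat.card {x : S.H // orderOf x = i} = Nat.totient i := by
      rw [Nat.card_eq_fintype_card, Fintype.card_subtype]
      exact IsCyclic.card_orderOf_eq_totient (by rwa [← Nat.card_eq_fintype_card, S.cardH])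
    rw [e, S.hNorm, S.card, gOrd] at h
    refine Nat.eq_of_mul_eq_mul_right (m := qq m - 1) (by omega) ?_
    calc 2 * Nat.card {g : G // orderOf g = i} * (qq m - 1) =
          Nat.card {g : G // orderOf g = i} * (2 * (qq m - 1)) := by ring
      _ = _ := by rw [h]; ring
  · intro i hi hd
    have hio : Odd i := b2.of_dvd_nat hd
    have hi3 : 2 < i := by
      rw [Nat.odd_iff] at hio; omega
    have h4 : (qq m + 1) / 4 ∣ qq m + 1 := ⟨4, by omega⟩
    rw [hsq]
    constructor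
    · have h := S.torS.count_order hi3 (hd.trans h4)
      rw [S.torS.card_order_odd hio (by rw [S.card_odd_T0]; exact hd), hn0, S.card, gOrd_eq] at h
      refine Nat.eq_of_mul_eq_mul_right (m := qq m + 1) (by omega) ?_
      calc 6 * Nat.card {g : G // orderOf g = i} * (qq m + 1) =
            Nat.card {g : G // orderOf g = i} * (6 * (qq m + 1)) := by ring
        _ = _ := by rw [h]; ring
    · have h := S.torS.count_order (i := 2 * i) (by omega) (by
        conv_rhs => rw [b1]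
        exact Nat.mul_dvd_mul (by norm_num) hd)
      rw [S.card_T0_double hio hd, hn0, S.card, gOrd_eq] at h
      refine Nat.eq_of_mul_eq_mul_right (m := 3 * (qq m + 1)) (by omega) ?_
      calc 2 * Nat.card {g : G // orderOf g = 2 * i} * (3 * (qq m + 1)) =
            Nat.card {g : G // orderOf g = 2 * i} * (6 * (qq m + 1)) := by ring
        _ = _ := by rw [h]; ring
  all_goals intro i hi hd
  · have hio : Odd i := c2.of_dvd_nat hd
    have h := hT₁.count_order (by rw [Nat.odd_iff] at hio; omega) hd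
    rw [hT₁.card_order_odd hio
      (by rw [(hT₁.split (e := 0) (by rw [pow_zero, one_mul]) c2).1]; exact hd),
      hn₁, S.card, gOrd_eq, pp_factor S.hm] at h
    refine Nat.eq_of_mul_eq_mul_right (m := qq m - rr m + 1) (by omega) ?_
    calc 6 * Nat.card {g : G // orderOf g = i} * (qq m - rr m + 1) =
          Nat.card {g : G // orderOf g = i} * (6 * (qq m - rr m + 1)) := by ring
      _ = _ := by rw [h, hsub]; ring
  · have hio : Odd i := d2.of_dvd_nat hd
    have h := hT₂.count_order (by rw [Nat.odd_iff] at hio; omega) hd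
    rw [hT₂.card_order_odd hio
      (by rw [(hT₂.split (e := 0) (by rw [pow_zero, one_mul]) d2).1]; exact hd),
      hn₂, S.card, gOrd_eq, pp_factor S.hm] at h
    refine Nat.eq_of_mul_eq_mul_right (m := qq m + rr m + 1) (by omega) ?_
    calc 6 * Nat.card {g : G // orderOf g = i} * (qq m + rr m + 1) =
          Nat.card {g : G // orderOf g = i} * (6 * (qq m + rr m + 1)) := by ring
      _ = _ := by rw [h, hsub]; ring

theorem conjugateCyclic {d : ℕ} (hd : d ∣ (qq m - 1) / 2 ∨ d ∣ (qq m + 1) / 4 ∨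
      d ∣ qq m - rr m + 1 ∨ d ∣ qq m + rr m + 1)
    (A B : Subgroup G) (hA : IsCyclic A) (hB : IsCyclic B) (hAd : Nat.card A = d) (hBd : Nat.card B = d) :
    ∃ g : G, B = A.map (MulAut.conj g).toMonoidHom := by
  haveI := S.finite
  obtain ⟨-, -, T₁, T₂, hT₁, hT₂, -, -, -⟩ := S.main
  obtain ⟨a1, a2, a3⟩ := S.split_H
  obtain ⟨b1, b2, b3⟩ := S.split_S
  obtain ⟨⟨c2, c3⟩, d2, d3⟩ := S.split_T
  have hd0 : 0 < d := hAd ▸ Nat.card_pos
  rcases Nat.lt_or_ge 1 d with h1 | h1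
  · have key : ∀ {T : Subgroup G} {k c : ℕ}, Tor S T k → c ∣ k → Odd c → d ∣ c →
        ∃ g : G, B = A.map (MulAut.conj g).toMonoidHom := fun hT hk hc hdc =>
      hT.cyclic_unique_conj hA hB (hAd ▸ h1) (hAd ▸ hc.of_dvd_nat hdc) (hAd ▸ hdc.trans hk)
        (hAd.trans hBd.symm)
    rcases hd with h | h | h | h
    · exact key S.torH ⟨2, by omega⟩ a2 h
    · exact key S.torS ⟨4, by omega⟩ b2 h
    · exact key hT₁ dvd_rfl c2 h
    · exact key hT₂ dvd_rfl d2 h
  · refine ⟨1, ?_⟩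
    rw [Subgroup.eq_bot_of_card_eq A (by omega), Subgroup.eq_bot_of_card_eq B (by omega),
      Subgroup.map_bot]

theorem centralizers (H : Subgroup G) (hH : IsCyclic H) :
    (Nat.card H = (qq m - 1) / 2 →
      IsCyclic ↥(Subgroup.centralizer (H : Set G)) ∧
        Nat.card ↥(Subgroup.centralizer (H : Set G)) = qq m - 1 ∧
        ∀ A : Subgroup G, A ≤ H → A ≠ ⊥ →
          Subgroup.centralizer (A : Set G) = Subgroup.centralizer (H : Set G)) ∧
    (Nat.card H = (qq m + 1) / 4 →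
      IsMulCommutative ↥(Subgroup.centralizer (H : Set G)) ∧
        Nat.card ↥(Subgroup.centralizer (H : Set G)) = qq m + 1 ∧
        (∀ x ∈ Subgroup.centralizer (H : Set G), orderOf x ≠ 4) ∧
        ∀ A : Subgroup G, A ≤ H → A ≠ ⊥ →
          Subgroup.centralizer (A : Set G) = Subgroup.centralizer (H : Set G)) := by
  haveI := S.finite
  obtain ⟨a1, a2, a3⟩ := S.split_H
  obtain ⟨b1, b2, b3⟩ := S.split_S
  refine ⟨fun hc => ?_, fun hc => ?_⟩
  · obtain ⟨x, hx⟩ := S.torH.cent_cyclic hH (by omega) (hc ▸ a2) (hc ▸ ⟨2, by omega⟩)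
    have hne : H ≠ ⊥ := fun e => by rw [e, Subgroup.card_bot] at hc; omega
    have e := hx H le_rfl hne
    refine ⟨?_, ?_, fun A hA hA' => (hx A hA hA').trans e.symm⟩
    · rw [e]
      haveI := S.hcyc
      exact isCyclic_of_surjective _ (S.H.equivMapOfInjective _ (MulAut.conj x).injective).surjective
    · rw [e, card_conj_map, S.cardH]
  · obtain ⟨x, hx⟩ := S.torS.cent_cyclic hH (by omega) (hc ▸ b2) (hc ▸ ⟨4, by omega⟩)
    have hne : H ≠ ⊥ := fun e => by rw [e, Subgroup.card_bot] at hc; omega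
    have e := hx H le_rfl hne
    refine ⟨?_, ?_, fun g _ h4 => S.not_four g (h4 ▸ dvd_rfl), fun A hA hA' => (hx A hA hA').trans e.symm⟩
    · rw [e]
      refine ⟨⟨?_⟩⟩
      rintro ⟨_, u, hu, rfl⟩ ⟨_, v, hv, rfl⟩
      exact Subtype.ext (by
        simp only [Subgroup.coe_mul, MulEquiv.coe_toMonoidHom]
        rw [← map_mul, ← map_mul, S.torS.mul_comm' hu hv])
    · rw [e, card_conj_map, S.torS.card]

end Sys

end CfsgLib.Chev.Ree
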