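/-
Solvable subgroups lie in local normalisers.
-/
import Cfsg.Agent.Lib.Chev.Ree.Results
import Cfsg.Agent.Lib.Coprime.Basic

set_option autoImplicit false

namespace CfsgLib.Chev.Ree

/-- there are at most seven four-groups in an elementary abelian group of order eight -/
theorem planes_le {E : Type*} [Group E] [Fintype E] [DecidableEq E] (hE : Fintype.card E = 8)
    (hsqE : ∀ x : E, x * x = 1)
    {ι : Type*} [Fintype ι] (W : ι → Finset E) (hinj : Function.Injective W)
    (h1 : ∀ i, (1 : E) ∈ W i) (h4 : ∀ i, (W i).card = 4)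
    (hmul : ∀ i, ∀ x ∈ W i, ∀ y ∈ W i, x * y ∈ W i) : Fintype.card ι ≤ 7 := by
  classical
  set P : ι → Finset (E × E) := fun i => ((W i).erase 1).offDiag
  have hgen : ∀ i, ∀ x ∈ W i, ∀ y ∈ W i, x ≠ 1 → y ≠ 1 → x ≠ y → x * y ≠ 1 →
      W i = {1, x, y, x * y} := by
    intro i x hx y hy hx1 hy1 hxy hxy1
    refine (Finset.eq_of_subset_of_card_le ?_ ?_).symm
    · intro z hz
      simp only [Finset.mem_insert, Finset.mem_singleton] at hz
      rcases hz with rfl | rfl | rfl | rfl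
      exacts [h1 i, hx, hy, hmul i x hx y hy]
    · rw [h4, Finset.card_insert_of_notMem, Finset.card_insert_of_notMem, Finset.card_pair]
      · exact fun e => hx1 (mul_eq_right.1 e.symm)
      · simp only [Finset.mem_insert, Finset.mem_singleton, not_or]
        exact ⟨hxy, fun e => hy1 (mul_eq_left.1 e.symm)⟩
      · simp only [Finset.mem_insert, Finset.mem_singleton, not_or]
        exact ⟨hx1.symm, hy1.symm, hxy1.symm⟩
  have hne1 : ∀ x y : E, x ≠ y → x * y ≠ 1 := fun x y hxy e => hxy (by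
    rw [← inv_eq_of_mul_eq_one_right (hsqE x), inv_eq_of_mul_eq_one_right e])
  have h6 : ∀ i, (P i).card = 6 := fun i => by
    rw [Finset.offDiag_card, Finset.card_erase_of_mem (h1 i), h4]
  have hdisj : ∀ i ∈ (Finset.univ : Finset ι), ∀ j ∈ (Finset.univ : Finset ι), i ≠ j →
      Disjoint (P i) (P j) := by
    intro i _ j _ hij
    rw [Finset.disjoint_left]
    intro p hpi hpj
    rw [Finset.mem_offDiag] at hpi hpj
    obtain ⟨a, b, c⟩ := hpi
    have d := hne1 _ _ c
    rw [Finset.mem_erase] at a b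
    refine hij (hinj ?_)
    rw [hgen i _ a.2 _ b.2 a.1 b.1 c d,
      hgen j _ (Finset.mem_of_mem_erase hpj.1) _ (Finset.mem_of_mem_erase hpj.2.1) a.1 b.1 c d]
  have hle : (Finset.univ.biUnion P).card ≤ 42 := by
    refine (Finset.card_le_card (t := ((Finset.univ : Finset E).erase 1).offDiag) ?_).trans
      (by rw [Finset.offDiag_card, Finset.card_erase_of_mem (Finset.mem_univ _), Finset.card_univ, hE])
    intro p hp
    obtain ⟨i, -, hp⟩ := Finset.mem_biUnion.1 hp
    exact Finset.offDiag_mono (Finset.erase_subset_erase 1 (Finset.subset_univ _)) hp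
  rw [Finset.card_biUnion hdisj, Finset.sum_congr rfl fun i _ => h6 i, Finset.sum_const,
    Finset.card_univ, smul_eq_mul] at hle
  omega

variable {G : Type*} [Group G] {m : ℕ}

lemma norm_map (x : G) (A : Subgroup G) :
    Subgroup.normalizer ((A.map (MulAut.conj x).toMonoidHom : Subgroup G) : Set G) =
      (Subgroup.normalizer (A : Set G)).map (MulAut.conj x).toMonoidHom :=
  (Subgroup.map_equiv_normalizer_eq A (MulAut.conj x)).symm

lemma map_conj_conj (x y : G) (A : Subgroup G) :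
    (A.map (MulAut.conj x).toMonoidHom).map (MulAut.conj y).toMonoidHom =
      A.map (MulAut.conj (y * x)).toMonoidHom := by
  ext z
  rw [mem_conj_map, mem_conj_map, mem_conj_map,
    show x⁻¹ * (y⁻¹ * z * y) * x = (y * x)⁻¹ * z * (y * x) by group]

lemma norm_transfer {x : G} {A B : Subgroup G}
    (h : Subgroup.normalizer ((A.map (MulAut.conj x⁻¹).toMonoidHom : Subgroup G) : Set G) ≤
      Subgroup.normalizer (B : Set G)) :
    Subgroup.normalizer (A : Set G) ≤
      Subgroup.normalizer ((B.map (MulAut.conj x).toMonoidHom : Subgroup G) : Set G) := by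
  intro g hg
  rw [norm_map, mem_conj_map]
  refine h ?_
  rw [norm_map, mem_conj_map]
  simpa [mul_assoc] using hg

/-- the local normalisers -/
def LocalNorm (m : ℕ) (A : Subgroup G) : Prop :=
  (∃ P : Sylow 2 G, A = P) ∨ (∃ P : Sylow 3 G, A = P) ∨
    (IsCyclic A ∧ (Nat.card A = (qq m - 1) / 2 ∨ Nat.card A = (qq m + 1) / 4 ∨
      Nat.card A = qq m - rr m + 1 ∨ Nat.card A = qq m + rr m + 1))

lemma localNorm_conj {A : Subgroup G} (hc : IsCyclic A)
    (h : Nat.card A = (qq m - 1) / 2 ∨ Nat.card A = (qq m + 1) / 4 ∨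
      Nat.card A = qq m - rr m + 1 ∨ Nat.card A = qq m + rr m + 1) (x : G) :
    LocalNorm m (A.map (MulAut.conj x).toMonoidHom) := by
  refine Or.inr (Or.inr ⟨?_, by rwa [card_conj_map]⟩)
  exact isCyclic_of_surjective _ (A.equivMapOfInjective _ (MulAut.conj x).injective).surjective

namespace Sys

variable (S : Sys G m)
include S

lemma norm_three {A : Subgroup G} (hA : IsPGroup 3 A) (hne : A ≠ ⊥) :
    ∃ B : Subgroup G, Subgroup.normalizer (A : Set G) ≤ Subgroup.normalizer (B : Set G) ∧ LocalNorm m B := by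
  haveI := S.finite
  haveI : Fact (Nat.Prime 3) := ⟨Nat.prime_three⟩
  obtain ⟨Q, hQ⟩ := hA.exists_le_sylow
  obtain ⟨x, hx⟩ := S.three_le_U Q.2
  have hU : IsPGroup 3 S.U := fun u => ⟨2, Subtype.ext (S.exp9 _ u.2)⟩
  have hQe : S.U.map (MulAut.conj x).toMonoidHom = Q := Q.3 (hU.map _) hx
  refine ⟨(Q : Subgroup G), ?_, Or.inr (Or.inl ⟨Q, rfl⟩)⟩
  show _ ≤ Subgroup.normalizer ((Q : Subgroup G) : Set G)
  rw [← hQe]
  refine norm_transfer fun g hg => ?_
  obtain ⟨⟨z, hz⟩, hz1⟩ := (Subgroup.ne_bot_iff_exists_ne_one (H := A)).1 hne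
  have hzA : x⁻¹ * z * x⁻¹⁻¹ ∈ A.map (MulAut.conj x⁻¹).toMonoidHom := ⟨z, hz, rfl⟩
  have hle : A.map (MulAut.conj x⁻¹).toMonoidHom ≤ S.U := by
    rintro _ ⟨y, hy, rfl⟩
    have := mem_conj_map.1 (hx (hQ hy))
    simpa [mul_assoc] using this
  exact S.ti_norm (hle hzA) (fun e => hz1 (Subtype.ext (conj_eq_one_iff.1 e)))
    (hle ((Subgroup.mem_normalizer_iff.1 hg _).1 hzA))

lemma norm_big {p : ℕ} (hp : p.Prime) (hp3 : 3 < p) {A : Subgroup G} (hne : A ≠ ⊥)
    (hpow : ∀ a ∈ A, a ^ p = 1) :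
    ∃ B : Subgroup G, Subgroup.normalizer (A : Set G) ≤ Subgroup.normalizer (B : Set G) ∧ LocalNorm m B := by
  haveI := S.finite
  haveI : Fact p.Prime := ⟨hp⟩
  obtain ⟨Q, hQ⟩ := (show IsPGroup p A from fun a => ⟨1, by
    rw [pow_one]; exact Subtype.ext (hpow a a.2)⟩).exists_le_sylow
  haveI := S.cyc p hp3 Q
  haveI hAc : IsCyclic A := isCyclic_of_injective _ (Subgroup.inclusion_injective hQ)
  obtain ⟨g, hg⟩ := IsCyclic.exists_ofOrder_eq_natCard (α := A)
  have hcard : Nat.card A = p := by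
    rcases (Nat.dvd_prime hp).1 (hg ▸ orderOf_dvd_of_pow_eq_one
      (show g ^ p = 1 from Subtype.ext (hpow g g.2))) with e | e
    · exact absurd (Subgroup.card_eq_one.1 e) hne
    · exact e
  obtain ⟨-, -, T₁, T₂, hT₁, hT₂, -, -, -⟩ := S.main
  obtain ⟨a1, a2, a3⟩ := S.split_H
  obtain ⟨b1, b2, b3⟩ := S.split_S
  obtain ⟨⟨c2, c3⟩, d2, d3⟩ := S.split_T
  have key : ∀ {T : Subgroup G} {k e c : ℕ}, Tor S T k → k = 2 ^ e * c → Odd c → p ∣ k →
      (c = (qq m - 1) / 2 ∨ c = (qq m + 1) / 4 ∨ c = qq m - rr m + 1 ∨ c = qq m + rr m + 1) →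
      ∃ B : Subgroup G, Subgroup.normalizer (A : Set G) ≤ Subgroup.normalizer (B : Set G) ∧ LocalNorm m B := by
    intro T k e c hT hk hc hpk hcc
    obtain ⟨x, hx⟩ := hT.cyclic_conj hAc (hcard ▸ hp.one_lt) (hcard ▸ hp.odd_of_ne_two (by omega))
      (hcard ▸ hpk)
    refine ⟨hT.odd.map (MulAut.conj x).toMonoidHom, norm_transfer (le_of_eq ?_),
      localNorm_conj hT.odd_cyclic (by rwa [(hT.split hk hc).1]) x⟩
    exact (hT.norm_sub hx fun e => hne
      ((Subgroup.map_eq_bot_iff_of_injective _ (MulAut.conj x⁻¹).injective).1 e)).2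
  have hdvd : p ∣ gOrd m := by
    rw [← S.card, ← hcard]; exact A.card_subgroup_dvd_card
  rcases prime_cases hp hdvd with h | h | h | h
  · omega
  · exact key S.torH a1 a2 h (Or.inl rfl)
  · exact key S.torS b1 b2 h (Or.inr (Or.inl rfl))
  · rw [pp_factor S.hm] at h
    rcases hp.dvd_mul.1 h with h | h
    · exact key hT₁ (e := 0) (by rw [pow_zero, one_mul]) c2 h (Or.inr (Or.inr (Or.inl rfl)))
    · exact key hT₂ (e := 0) (by rw [pow_zero, one_mul]) d2 h (Or.inr (Or.inr (Or.inr rfl)))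

/-- four-groups are conjugate -/
lemma four_conj {V : Subgroup G} (hV : Nat.card V = 4) (hsq : ∀ x ∈ V, x * x = 1) :
    ∃ x, S.V0.map (MulAut.conj x).toMonoidHom = V := by
  classical
  haveI := S.finite
  haveI : Fact (Nat.Prime 2) := ⟨Nat.prime_two⟩
  haveI : Fact (Nat.Prime 7) := ⟨by norm_num⟩
  obtain ⟨Q, hQ⟩ := (IsPGroup.of_card (p := 2) (n := 2) (G := V) hV).exists_le_sylow
  obtain ⟨E, hE⟩ := S.V0_two.exists_le_sylow
  obtain ⟨x, hx⟩ := MulAction.exists_smul_eq G E Q
  set V' := V.map (MulAut.conj x⁻¹).toMonoidHom with hV'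
  have hV'E : V' ≤ E := by
    rintro _ ⟨y, hy, rfl⟩
    have : y ∈ ((x • E : Sylow 2 G) : Subgroup G) := hx ▸ hQ hy
    rw [Sylow.coe_subgroup_smul] at this
    obtain ⟨u, hu, rfl⟩ := this
    show x⁻¹ * (MulAut.conj x u) * x⁻¹⁻¹ ∈ (E : Subgroup G)
    rw [MulAut.conj_apply, show x⁻¹ * (x * u * x⁻¹) * x⁻¹⁻¹ = u by group]
    exact hu
  obtain ⟨h8, hsqE, hcE, hNE⟩ := S.syl2 E
  obtain ⟨⟨g, hgN⟩, hgo⟩ := exists_prime_orderOf_dvd_card'
    (G := Subgroup.normalizer ((E : Subgroup G) : Set G)) 7 (by rw [hNE]; norm_num)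
  rw [Subgroup.orderOf_mk] at hgo
  have hgE : ∀ i : ℕ, ∀ u ∈ (E : Subgroup G), g ^ i * u * (g ^ i)⁻¹ ∈ (E : Subgroup G) := fun i u hu =>
    (Subgroup.mem_normalizer_iff.1 (pow_mem hgN i) u).1 hu
  haveI := Fintype.ofFinite (E : Subgroup G)
  have hnofix : ∀ W : Subgroup G, W ≤ E → Nat.card W = 4 →
      g ∉ Subgroup.normalizer (W : Set G) := by
    intro W hW hW4 hgW
    have hW2 : IsPGroup 2 W := IsPGroup.of_card (n := 2) hW4
    have hgc := (four_act hW4 fun t ht j hj => S.two_comm hW2 ht hj).2 g hgW (by rw [hgo]; norm_num)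
    let f : Equiv.Perm (E : Subgroup G) :=
      { toFun := fun u => ⟨g * u * g⁻¹, (Subgroup.mem_normalizer_iff.1 hgN u).1 u.2⟩
        invFun := fun u => ⟨g⁻¹ * u * g,
          (Subgroup.mem_normalizer_iff.1 hgN _).2 (by simpa [mul_assoc] using u.2)⟩
        left_inv := fun u => Subtype.ext (by show g⁻¹ * (g * u * g⁻¹) * g = u; group)
        right_inv := fun u => Subtype.ext (by show g * (g⁻¹ * u * g) * g⁻¹ = u; group) }
    have hfW : ∀ u : (E : Subgroup G), (u : G) ∈ W → f u = u := fun u hu => Subtype.ext (by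
      show g * u * g⁻¹ = u
      rw [← Subgroup.mem_centralizer_iff.1 hgc u hu, mul_inv_cancel_right])
    have hiff : ∀ u : (E : Subgroup G), (f u : G) ∉ W ↔ (u : G) ∉ W := fun u =>
      not_congr (Subgroup.mem_normalizer_iff.1 hgW u).symm
    have hpow : ∀ (n : ℕ) (u : (E : Subgroup G)),
        ((f ^ n) u : G) = g ^ n * u * (g ^ n)⁻¹ := by
      intro n
      induction n with
      | zero => intro u; simp
      | succ n ih =>
        intro u
        rw [pow_succ, Equiv.Perm.mul_apply, ih, pow_succ]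
        show g ^ n * (g * u * g⁻¹) * (g ^ n)⁻¹ = _
        group
    set f' : Equiv.Perm {u : (E : Subgroup G) // (u : G) ∉ W} := f.subtypePerm hiff
    have h4 : Nat.card {u : (E : Subgroup G) // (u : G) ∉ W} = 4 := by
      rw [Nat.card_eq_fintype_card, Fintype.card_subtype_compl, ← Nat.card_eq_fintype_card,
        ← Nat.card_eq_fintype_card, h8, Nat.card_congr (Equiv.ofBijective
          (fun u : {u : (E : Subgroup G) // (u : G) ∈ W} => (⟨u.1.1, u.2⟩ : W))
          ⟨fun u v e => Subtype.ext (Subtype.ext (congrArg (fun z : W => (z : G)) e)),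
            fun w => ⟨⟨⟨w, hW w.2⟩, w.2⟩, rfl⟩⟩), hW4]
    have e1 : f' ^ 7 = 1 := by
      refine Equiv.ext fun u => Subtype.ext (Subtype.ext ?_)
      rw [Equiv.Perm.subtypePerm_pow]
      show ((f ^ 7) u.1 : G) = _
      rw [hpow, ← hgo, pow_orderOf_eq_one]
      simp
    have e2 : f' = 1 := by
      rw [← orderOf_eq_one_iff]
      have h1 := orderOf_dvd_of_pow_eq_one e1
      have h2 := orderOf_dvd_natCard f'
      rw [Nat.card_perm, h4] at h2
      exact Nat.dvd_one.1 ((show Nat.gcd 7 (Nat.factorial 4) = 1 by decide) ▸ Nat.dvd_gcd h1 h2)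
    have hgE' : g ∈ Subgroup.centralizer ((E : Subgroup G) : Set G) := by
      refine Subgroup.mem_centralizer_iff.2 fun u hu => ?_
      have hf : f ⟨u, hu⟩ = ⟨u, hu⟩ := by
        by_cases huW : u ∈ W
        · exact hfW ⟨u, hu⟩ huW
        · exact congrArg Subtype.val (Equiv.congr_fun e2 ⟨⟨u, hu⟩, huW⟩)
      have := congrArg (fun z : (E : Subgroup G) => (z : G)) hf
      change g * u * g⁻¹ = u at this
      rw [mul_inv_eq_iff_eq_mul] at this
      exact this.symm
    rw [hcE] at hgE'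
    have := Nat.le_of_dvd two_pos (orderOf_dvd_of_pow_eq_one (show g ^ 2 = 1 by rw [sq, hsqE g hgE']))
    omega
  -- seven translates
  have hstep : ∀ i : ℕ, ∀ W : Subgroup G, W ≤ E → W.map (MulAut.conj (g ^ i)).toMonoidHom ≤ E := by
    rintro i W hW _ ⟨u, hu, rfl⟩
    exact hgE i u (hW hu)
  let F : Option (Fin 7) → Subgroup G := fun o =>
    o.elim V' fun i => S.V0.map (MulAut.conj (g ^ (i : ℕ))).toMonoidHom
  by_contra hno
  push Not at hno
  have hFE : ∀ o, F o ≤ E := by
    rintro (_ | i)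
    exacts [hV'E, hstep _ _ hE]
  have hF4 : ∀ o, Nat.card (F o) = 4 := by
    rintro (_ | i)
    · show Nat.card V' = 4
      rw [hV', card_conj_map, hV]
    · show Nat.card ↥(S.V0.map _) = 4
      rw [card_conj_map, S.card_V0]
  have hFinj : Function.Injective F := by
    have h0 : ∀ i j : Fin 7, F (some i) = F (some j) → (i : ℕ) < j → False := by
      intro i j e hij
      have hd : S.V0.map (MulAut.conj (g ^ ((j : ℕ) - i))).toMonoidHom = S.V0 := by
        have e' := congrArg (Subgroup.map (MulAut.conj (g ^ (i : ℕ))⁻¹).toMonoidHom) e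
        change (S.V0.map _).map _ = (S.V0.map _).map _ at e'
        rw [map_conj_conj, map_conj_conj, inv_mul_cancel,
          show (g ^ (i : ℕ))⁻¹ * g ^ (j : ℕ) = g ^ ((j : ℕ) - i) by
            rw [inv_mul_eq_iff_eq_mul, ← pow_add]; congr 1; omega] at e'
        rw [← e']
        ext z; rw [mem_conj_map]; simp
      have hn : g ^ ((j : ℕ) - i) ∈ Subgroup.normalizer (S.V0 : Set G) := by
        refine Subgroup.mem_normalizer_iff.2 fun z => ⟨fun hz => hd ▸ ⟨z, hz, rfl⟩, fun hz => ?_⟩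
        rw [← hd, mem_conj_map] at hz
        simpa [mul_assoc] using hz
      have hcop : Nat.Coprime ((j : ℕ) - i) (orderOf g) := by
        rw [hgo]
        exact (Nat.coprime_of_lt_prime (by omega) (by have := j.2; omega) (by norm_num)).symm
      obtain ⟨n, hn'⟩ := exists_pow_eq_self_of_coprime hcop
      exact hnofix S.V0 hE S.card_V0 (hn' ▸ pow_mem hn n)
    rintro (_ | i) (_ | j) e
    · rfl
    · exact absurd (show (S.V0.map (MulAut.conj (x * g ^ (j : ℕ))).toMonoidHom) = V by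
        rw [← map_conj_conj]
        change V' = S.V0.map _ at e
        rw [← e, hV', map_conj_conj, mul_inv_cancel]
        ext z; rw [mem_conj_map]; simp) (hno _)
    · exact absurd (show (S.V0.map (MulAut.conj (x * g ^ (i : ℕ))).toMonoidHom) = V by
        rw [← map_conj_conj]
        rw [show S.V0.map (MulAut.conj (g ^ (i : ℕ))).toMonoidHom = V' from e, hV', map_conj_conj,
          mul_inv_cancel]
        ext z; rw [mem_conj_map]; simp) (hno _)
    · rcases lt_trichotomy (i : ℕ) j with h | h | h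
      · exact (h0 i j e h).elim
      · rw [Fin.ext h]
      · exact (h0 j i e.symm h).elim
  have h7 := planes_le (E := (E : Subgroup G)) (by rw [← Nat.card_eq_fintype_card, h8])
    (fun u => Subtype.ext (hsqE u u.2))
    (fun o => Finset.univ.filter fun u : (E : Subgroup G) => (u : G) ∈ F o)
    (fun o o' e => hFinj (le_antisymm
      (fun u hu => by
        have := (Finset.ext_iff.1 e ⟨u, hFE o hu⟩).1 (by simp [hu])
        simpa using this)
      (fun u hu => by
        have := (Finset.ext_iff.1 e ⟨u, hFE o' hu⟩).2 (by simp [hu])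
        simpa using this)))
    (fun o => by simp [one_mem])
    (fun o => by
      rw [← Fintype.card_subtype, ← Nat.card_eq_fintype_card, ← hF4 o]
      exact Nat.card_congr
        { toFun := fun u => ⟨u.1.1, u.2⟩
          invFun := fun u => ⟨⟨u.1, hFE o u.2⟩, u.2⟩
          left_inv := fun _ => rfl
          right_inv := fun _ => rfl })
    (fun o u hu v hv => by
      simp only [Finset.mem_filter, Finset.mem_univ, true_and, Subgroup.coe_mul] at hu hv ⊢
      exact mul_mem hu hv)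
  simp at h7

lemma norm_two {A : Subgroup G} (hsq : ∀ x ∈ A, x * x = 1) (h4 : 4 ∣ Nat.card A) :
    ∃ B : Subgroup G, Subgroup.normalizer (A : Set G) ≤ Subgroup.normalizer (B : Set G) ∧ LocalNorm m B := by
  haveI := S.finite
  haveI : Fact (Nat.Prime 2) := ⟨Nat.prime_two⟩
  obtain ⟨E, hE⟩ := (show IsPGroup 2 A from fun a => ⟨1, by
    rw [pow_one, sq]; exact Subtype.ext (hsq a a.2)⟩).exists_le_sylow
  have h8 : Nat.card A ∣ 8 := (S.syl2 E).1 ▸ Subgroup.card_dvd_of_le hE
  rcases (show Nat.card A = 4 ∨ Nat.card A = 8 by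
    have := Nat.le_of_dvd (by norm_num) h8
    interval_cases h : Nat.card A <;> omega) with h | h
  · obtain ⟨x, rfl⟩ := S.four_conj h hsq
    obtain ⟨-, hVN, -⟩ := S.main
    obtain ⟨b1, b2, b3⟩ := S.split_S
    refine ⟨S.torS.odd.map (MulAut.conj x).toMonoidHom, norm_transfer (le_of_eq ?_),
      localNorm_conj S.torS.odd_cyclic (Or.inr (Or.inl S.card_odd_T0)) x⟩
    rw [map_conj_conj, inv_mul_cancel,
      show S.V0.map (MulAut.conj (1 : G)).toMonoidHom = S.V0 by ext z; rw [mem_conj_map]; simp, hVN,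
      ← (S.torS.norm_sub le_rfl (fun e => by
        have := S.card_odd_T0
        rw [e, Subgroup.card_bot] at this; omega)).1]
  · refine ⟨(E : Subgroup G), le_of_eq ?_, Or.inl ⟨E, rfl⟩⟩
    rw [Subgroup.eq_of_le_of_card_ge hE (by rw [h, (S.syl2 E).1])]

lemma norm_elem {p : ℕ} (hp : p.Prime) {A : Subgroup G} (hne : A ≠ ⊥)
    (hpow : ∀ a ∈ A, a ^ p = 1) (h2 : p = 2 → 4 ∣ Nat.card A) :
    ∃ B : Subgroup G, Subgroup.normalizer (A : Set G) ≤ Subgroup.normalizer (B : Set G) ∧ LocalNorm m B := by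
  by_cases hp2 : p = 2
  · exact S.norm_two (fun a ha => by rw [← sq, ← hp2]; exact hpow a ha) (h2 hp2)
  by_cases hp3 : p = 3
  · subst hp3
    exact S.norm_three (fun a => ⟨1, by rw [pow_one]; exact Subtype.ext (hpow a a.2)⟩) hne
  exact S.norm_big hp (S.prime_gt hp hp2 hp3) hne hpow

/-- solvable subgroups -/
theorem solvable (K : Subgroup G) (hK : Group.IsSolvable K) :
    ∃ A : Subgroup G, K ≤ Subgroup.normalizer (A : Set G) ∧ LocalNorm m A := by
  classical
  haveI := S.finite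
  haveI : Fact (Nat.Prime 2) := ⟨Nat.prime_two⟩
  by_cases hp2 : IsPGroup 2 K
  · obtain ⟨E, hE⟩ := hp2.exists_le_sylow
    exact ⟨E, hE.trans Subgroup.le_normalizer, Or.inl ⟨E, rfl⟩⟩
  have lift : ∀ {p : ℕ} {N : Subgroup K}, p.Prime → N.Normal → N ≠ ⊥ → (∀ a ∈ N, a ^ p = 1) →
      (p = 2 → 4 ∣ Nat.card N) → ∃ A : Subgroup G, K ≤ Subgroup.normalizer (A : Set G) ∧ LocalNorm m A := by
    intro p N hp hN hne hpow h2
    obtain ⟨B, hB, hL⟩ := S.norm_elem hp (A := N.map K.subtype)
      (fun e => hne ((Subgroup.map_eq_bot_iff_of_injective _ K.subtype_injective).1 e))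
      (by rintro _ ⟨a, ha, rfl⟩; rw [← map_pow, hpow a ha, map_one])
      (fun e => by rw [Subgroup.card_map_of_injective K.subtype_injective]; exact h2 e)
    refine ⟨B, le_trans ?_ hB, hL⟩
    intro g hg
    refine Subgroup.mem_normalizer_iff.2 fun z => ⟨?_, ?_⟩
    · rintro ⟨a, ha, rfl⟩
      exact ⟨⟨g, hg⟩ * a * ⟨g, hg⟩⁻¹, hN.conj_mem a ha _, rfl⟩
    · rintro ⟨a, ha, e⟩
      refine ⟨⟨g, hg⟩⁻¹ * a * ⟨g, hg⟩, by simpa using hN.conj_mem a ha (⟨g, hg⟩⁻¹), ?_⟩
      show g⁻¹ * (a : G) * g = z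
      rw [show (a : G) = g * z * g⁻¹ from e]; group
  haveI : Nontrivial K := by
    by_contra hnt
    rw [not_nontrivial_iff_subsingleton] at hnt
    exact hp2 (fun g => ⟨0, Subsingleton.elim _ _⟩)
  obtain ⟨p, N, hp, hN, hne, hcomm, hpow⟩ := CfsgLib.Coprime.exists_normal_elementaryAbelian (G := K)
  haveI := hN
  have hpN : IsPGroup p N := fun a => ⟨1, by rw [pow_one]; exact Subtype.ext (hpow a a.2)⟩
  haveI : Fact p.Prime := ⟨hp⟩
  obtain ⟨j, hj⟩ := IsPGroup.iff_card.1 hpN
  by_cases h2 : p = 2 → 4 ∣ Nat.card N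
  · exact lift hp hN hne hpow h2
  -- a central involution
  obtain ⟨rfl, h4⟩ := Classical.not_imp.1 h2
  have hj1 : j = 1 := by
    have hj0 : j ≠ 0 := fun e => hne (Subgroup.card_eq_one.1 (by rw [hj, e, pow_zero]))
    by_contra hj1
    exact h4 (hj ▸ dvd_trans (show 4 ∣ 2 ^ 2 by norm_num) (pow_dvd_pow 2 (by omega)))
  rw [hj1, pow_one] at hj
  have hcen : ∀ a ∈ N, ∀ k : K, k * a = a * k := by
    intro a ha k
    rcases eq_or_ne a 1 with rfl | ha1
    · simp
    obtain ⟨u, hu⟩ := Nat.card_eq_two_iff' (1 : N) |>.1 hj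
    have h1 := hu.2 ⟨a, ha⟩ (fun e => ha1 (congrArg Subtype.val e))
    have h2 := hu.2 ⟨k * a * k⁻¹, hN.conj_mem a ha k⟩
      (fun e => ha1 (conj_eq_one_iff.1 (congrArg Subtype.val e)))
    exact mul_inv_eq_iff_eq_mul.1 (congrArg Subtype.val (h2.trans h1.symm))
  haveI : Nontrivial (K ⧸ N) := by
    rw [QuotientGroup.nontrivial_iff]
    intro e
    exact hp2 (fun g => ⟨1, by rw [pow_one]; exact hpow g (e ▸ Subgroup.mem_top g)⟩)
  obtain ⟨r, M, hr, hM, hMne, hMcomm, hMpow⟩ :=
    CfsgLib.Coprime.exists_normal_elementaryAbelian (G := K ⧸ N)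
  set B := M.comap (QuotientGroup.mk' N) with hB
  haveI hBn : B.Normal := hM.comap _
  have hNB : N ≤ B := fun a ha => by
    show (QuotientGroup.mk' N) a ∈ M
    rw [QuotientGroup.mk'_apply, (QuotientGroup.eq_one_iff a).2 ha]
    exact one_mem _
  have hBne : ∃ b ∈ B, b ∉ N := by
    obtain ⟨⟨u, hu⟩, hu1⟩ := (Subgroup.ne_bot_iff_exists_ne_one (H := M)).1 hMne
    obtain ⟨b, rfl⟩ := QuotientGroup.mk'_surjective N u
    exact ⟨b, hu, fun e => hu1 (Subtype.ext ((QuotientGroup.eq_one_iff b).2 e))⟩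
  have hBpow : ∀ b ∈ B, b ^ r ∈ N := fun b hb => (QuotientGroup.eq_one_iff _).1 (hMpow _ hb)
  by_cases hr2 : r = 2
  · subst hr2
    have hsq : ∀ b ∈ B, b ^ 2 = 1 := fun b hb => by
      rw [sq]
      refine Subtype.ext (S.two_elt (k := 2) ?_)
      exact congrArg Subtype.val (show b ^ (2 ^ 2) = 1 by
        rw [show (2 : ℕ) ^ 2 = 2 * 2 by norm_num, pow_mul]; exact hpow _ (hBpow b hb))
    refine lift Nat.prime_two hBn (fun e => ?_) hsq fun _ => ?_
    · obtain ⟨b, hb, hbN⟩ := hBne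
      rw [e, Subgroup.mem_bot] at hb
      exact hbN (hb ▸ one_mem _)
    · obtain ⟨i, hi⟩ := IsPGroup.iff_card.1 (show IsPGroup 2 B from fun b =>
        ⟨1, by rw [pow_one]; exact Subtype.ext (hsq b b.2)⟩)
      have hlt : Nat.card N < Nat.card B := by
        obtain ⟨b, hb, hbN⟩ := hBne
        refine lt_of_le_of_ne (Nat.le_of_dvd Nat.card_pos (Subgroup.card_dvd_of_le hNB)) fun e => ?_
        exact hbN ((Subgroup.eq_of_le_of_card_ge hNB e.ge) ▸ hb)
      rw [hj, hi] at hlt
      rw [hi]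
      refine dvd_trans (show 4 ∣ 2 ^ 2 by norm_num) (pow_dvd_pow 2 ?_)
      by_contra hh
      have : 2 ^ i ≤ 2 ^ 1 := Nat.pow_le_pow_right two_pos (by omega)
      omega
  · -- the odd part of the preimage
    have hrodd : Odd r := hr.odd_of_ne_two hr2
    haveI : Fact r.Prime := ⟨hr⟩
    have hcBB : ∀ u ∈ B, ∀ v ∈ B, u⁻¹ * v⁻¹ * u * v ∈ N := fun u hu v hv => by
      refine (QuotientGroup.eq_one_iff _).1 ?_
      show ((u : K ⧸ N))⁻¹ * (v : K ⧸ N)⁻¹ * u * v = 1
      rw [mul_assoc, show (u : K ⧸ N) * v = v * u from hMcomm _ hu _ hv]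
      group
    have hpr : ∀ b ∈ B, ((b ^ 2) : K) ^ r = 1 := fun b hb => by
      rw [← pow_mul, mul_comm, pow_mul]; exact hpow _ (hBpow b hb)
    have hmul : ∀ u ∈ B, ∀ v ∈ B, (u * v) ^ 2 = u ^ 2 * v ^ 2 := by
      intro u hu v hv
      set z := u⁻¹ * v⁻¹ * u * v with hz
      have hzc := hcen z (hcBB u hu v hv)
      have hz2 : z * z = 1 := by rw [← sq]; exact hpow _ (hcBB u hu v hv)
      have e : v * u = u * v * z := by
        have : u * v = v * u * z := by rw [hz]; group
        calc v * u = v * u * (z * z) := by rw [hz2, mul_one]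
          _ = _ := by rw [← mul_assoc, ← this]
      calc (u * v) ^ 2 = u * (v * u) * v := by rw [sq]; group
        _ = u * u * v * (z * v) := by rw [e]; group
        _ = u * u * v * (v * z) := by rw [← hzc v]
        _ = u ^ 2 * v ^ 2 * z := by rw [sq, sq]; group
        _ = u ^ 2 * v ^ 2 := ?_
      -- the commutator dies in odd exponent
      have hz1 : z = 1 := by
        by_contra hz1
        have hv' : ∀ n : ℕ, v ^ n * u = u * v ^ n * z ^ n := by
          intro n
          induction n with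
          | zero => simp
          | succ n ih =>
            have hc : Commute v (z ^ n) := (show Commute v z from hzc v).pow_right n
            calc v ^ (n + 1) * u = v * (v ^ n * u) := by rw [pow_succ']; group
              _ = v * u * v ^ n * z ^ n := by rw [ih]; group
              _ = u * v * z * v ^ n * z ^ n := by rw [e]
              _ = u * v * (z * v ^ n) * z ^ n := by group
              _ = u * v * (v ^ n * z) * z ^ n := by rw [(show Commute (v ^ n) z from hzc _).eq]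
              _ = u * v ^ (n + 1) * z ^ (n + 1) := by rw [pow_succ' v, pow_succ' z]; group
        have h1 := hv' r
        rw [← hcen _ (hBpow v hv) u] at h1
        obtain ⟨i, rfl⟩ := hrodd
        rw [pow_succ z, pow_mul, sq z, hz2, one_pow, one_mul] at h1
        exact hz1 (mul_eq_left.1 h1.symm)
      rw [hz1, mul_one]
    let P : Subgroup K :=
      { carrier := {x | x ∈ B ∧ x ^ r = 1}
        one_mem' := ⟨one_mem _, one_pow r⟩
        mul_mem' := fun {x y} hx hy => by
          refine ⟨mul_mem hx.1 hy.1, ?_⟩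
          obtain ⟨i, rfl⟩ := hrodd
          have hx' : x = (x ^ (i + 1)) ^ 2 := by
            rw [← pow_mul, show (i + 1) * 2 = (2 * i + 1) + 1 by ring, pow_succ, hx.2, one_mul]
          have hy' : y = (y ^ (i + 1)) ^ 2 := by
            rw [← pow_mul, show (i + 1) * 2 = (2 * i + 1) + 1 by ring, pow_succ, hy.2, one_mul]
          rw [hx', hy', ← hmul _ (pow_mem hx.1 _) _ (pow_mem hy.1 _)]
          exact hpr _ (mul_mem (pow_mem hx.1 _) (pow_mem hy.1 _))
        inv_mem' := fun {x} hx => ⟨inv_mem hx.1, by rw [inv_pow, hx.2, inv_one]⟩ }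
    refine lift hr (N := P) ⟨fun x hx k => ⟨hBn.conj_mem x hx.1 k, by rw [conj_pow, hx.2]; group⟩⟩ ?_
      (fun x hx => hx.2) (fun e => absurd e hr2)
    intro e
    obtain ⟨b, hb, hbN⟩ := hBne
    have hb2 : b ^ 2 = 1 := by
      have : b ^ 2 ∈ P := ⟨pow_mem hb 2, hpr b hb⟩
      rwa [e, Subgroup.mem_bot] at this
    obtain ⟨i, rfl⟩ := hrodd
    have := hBpow b hb
    rw [pow_succ, pow_mul, hb2, one_pow, one_mul] at this
    exact hbN this

end Sys

end CfsgLib.Chev.Ree
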